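import Mathlib
import Cfsg.Agent.OddHalf.UT5.Core
import Cfsg.Agent.SporadicRecognition.HeldSylow
import Cfsg.Agent.SporadicRecognition.HeldFusion
import Cfsg.Agent.OddHalf.TFormula

-- merged: Cfsg.Agent.OddHalf.UT5.ChainBase
section

/-!
# ODD half, groups with Sylow 2-subgroup `UT(5, 2)`: chains (helper458)

Text: bb ODD #10902, step (6), abstract part. `Chain t N S`: the involution `t` normalises `N`, all
involutions of `tN` are `N`-conjugate to `t`, and `C_N(t) ⊆ S`. `Chain.step`: a chain is extended by a four-group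
`⟨x, a⟩` with `t a t = a x` which normalises `N`, if `x ∉ S`.
-/

set_option autoImplicit false
set_option linter.dupNamespace false

namespace Cfsg.Agent.OddHalf.UT5.ChainBase

variable {G : Type*} [Group G]

/-- `N ∪ s N`, for `s` normalising `N` and `s² ∈ N` -/
def ext (N : Subgroup G) (s : G) (h1 : ∀ n ∈ N, s⁻¹ * n * s ∈ N) (h3 : s * s ∈ N) :
    Subgroup G where
  carrier := {g | g ∈ N ∨ s⁻¹ * g ∈ N}
  one_mem' := Or.inl N.one_mem
  mul_mem' := by
    rintro g h (hg | hg) (hh | hh)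
    · exact Or.inl (N.mul_mem hg hh)
    · refine Or.inr ?_
      have e : s⁻¹ * (g * h) = s⁻¹ * g * s * (s⁻¹ * h) := by group
      rw [e]; exact N.mul_mem (h1 g hg) hh
    · refine Or.inr ?_
      have e : s⁻¹ * (g * h) = s⁻¹ * g * h := by group
      rw [e]; exact N.mul_mem hg hh
    · refine Or.inl ?_
      have e : g * h = s * s * (s⁻¹ * (s⁻¹ * g) * s) * (s⁻¹ * h) := by group
      rw [e]; exact N.mul_mem (N.mul_mem h3 (h1 _ hg)) hh
  inv_mem' := by
    rintro g (hg | hg)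
    · exact Or.inl (N.inv_mem hg)
    · refine Or.inr ?_
      have e : s⁻¹ * g⁻¹ = s⁻¹ * (s⁻¹ * g)⁻¹ * s * (s * s)⁻¹ := by group
      rw [e]; exact N.mul_mem (h1 _ (N.inv_mem hg)) (N.inv_mem h3)

theorem mem_ext {N : Subgroup G} {s : G} {h1 : ∀ n ∈ N, s⁻¹ * n * s ∈ N}
    {h3 : s * s ∈ N} {g : G} : g ∈ ext N s h1 h3 ↔ g ∈ N ∨ s⁻¹ * g ∈ N := Iff.rfl

theorem le_ext {N : Subgroup G} {s : G} {h1 : ∀ n ∈ N, s⁻¹ * n * s ∈ N}
    {h3 : s * s ∈ N} : N ≤ ext N s h1 h3 :=
  fun _ h => Or.inl h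

theorem self_mem_ext {N : Subgroup G} {s : G} {h1 : ∀ n ∈ N, s⁻¹ * n * s ∈ N}
    {h3 : s * s ∈ N} : s ∈ ext N s h1 h3 := by
  refine Or.inr ?_
  rw [inv_mul_cancel]; exact N.one_mem

/-- see above -/
structure Chain (t : G) (N : Subgroup G) (S : Set G) : Prop where
  tN : ∀ n ∈ N, t * n * t ∈ N
  cj : ∀ y ∈ N, t * y * (t * y) = 1 → ∃ g ∈ N, t * y = g * t * g⁻¹
  cen : ∀ y ∈ N, y * t = t * y → y ∈ S

theorem Chain.bot {t : G} (tt : t * t = 1) {S : Set G} (h1 : (1 : G) ∈ S) :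
    Chain t (⊥ : Subgroup G) S where
  tN := by
    intro n hn
    rw [Subgroup.mem_bot] at hn ⊢
    rw [hn, mul_one, tt]
  cj := by
    intro y hy _
    rw [Subgroup.mem_bot] at hy
    exact ⟨1, Subgroup.one_mem _, by rw [hy]; group⟩
  cen := by
    intro y hy _
    rw [Subgroup.mem_bot] at hy
    rw [hy]; exact h1

section free

variable {t x a : G} {N : Subgroup G} {S : Set G}

theorem Chain.x_notMem (h : Chain t N S) (tx : t * x = x * t) (xS : x ∉ S) : x ∉ N :=
  fun hx => xS (h.cen x hx tx.symm)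

theorem Chain.a_notMem (h : Chain t N S) (tx : t * x = x * t) (xS : x ∉ S)
    (ta : t * a * t = a * x) : a ∉ N := fun ha => by
  apply h.x_notMem tx xS
  have h1 := h.tN a ha
  rw [ta] at h1
  have e : x = a⁻¹ * (a * x) := by group
  rw [e]; exact N.mul_mem (N.inv_mem ha) h1

theorem Chain.ax_notMem (h : Chain t N S) (tx : t * x = x * t) (xS : x ∉ S)
    (tt : t * t = 1) (ta : t * a * t = a * x) : a * x ∉ N := fun ha => by
  apply h.a_notMem tx xS ta
  have h1 := h.tN _ ha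
  rw [← ta] at h1
  have e : t * (t * a * t) * t = a := by
    calc t * (t * a * t) * t = (t * t) * a * (t * t) := by group
      _ = a := by rw [tt]; group
  rwa [e] at h1

end free

/-- the step -/
theorem Chain.step {t x a : G} {N N' : Subgroup G} {S S' : Set G} (tt : t * t = 1)
    (h : Chain t N S) (xx : x * x = 1) (aa : a * a = 1) (xa : x * a = a * x)
    (ta : t * a * t = a * x) (tx : t * x = x * t) (xS : x ∉ S)
    (na : ∀ n ∈ N, a * n * a ∈ N)
    (hN' : ∀ y ∈ N', y ∈ N ∨ x * y ∈ N ∨ a * y ∈ N ∨ x * (a * y) ∈ N)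
    (hle : N ≤ N') (hxN : x ∈ N') (haN : a ∈ N') (hS1 : S ⊆ S') (hS2 : ∀ s ∈ S, x * s ∈ S') :
    Chain t N' S' := by
  have xN : x ∉ N := h.x_notMem tx xS
  have xi : x⁻¹ = x := inv_eq_of_mul_eq_one_right xx
  have ai : a⁻¹ = a := inv_eq_of_mul_eq_one_right aa
  have txt : t * x * t = x := by
    calc t * x * t = x * (t * t) := by rw [tx]; group
      _ = x := by rw [tt, mul_one]
  have ata : a * t * a = t * x := by
    calc a * t * a = (t * t) * a * t * a := by rw [tt]; group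
      _ = t * (t * a * t) * a := by group
      _ = t * (a * x) * a := by rw [ta]
      _ = t * (x * a) * a := by rw [xa]
      _ = t * x * (a * a) := by group
      _ = t * x := by rw [aa, mul_one]
  have ta' : t * a = a * x * t := by
    calc t * a = t * a * (t * t) := by rw [tt, mul_one]
      _ = t * a * t * t := by group
      _ = a * x * t := by rw [ta]
  refine ⟨?_, ?_, ?_⟩
  · intro y hy
    rcases hN' y hy with hy | hy | hy | hy
    · exact hle (h.tN y hy)
    · have e : t * y * t = x * (t * (x * y) * t) := by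
        calc t * y * t = t * (x * x) * y * t := by rw [xx]; group
          _ = (t * x) * (x * y) * t := by group
          _ = x * t * (x * y) * t := by rw [tx]
          _ = _ := by group
      rw [e]; exact N'.mul_mem hxN (hle (h.tN _ hy))
    · have e : t * y * t = a * x * (t * (a * y) * t) := by
        calc t * y * t = t * (a * a) * y * t := by rw [aa]; group
          _ = (t * a) * (a * y) * t := by group
          _ = a * x * t * (a * y) * t := by rw [ta']
          _ = _ := by group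
      rw [e]; exact N'.mul_mem (N'.mul_mem haN hxN) (hle (h.tN _ hy))
    · have e : t * y * t = a * (t * (x * (a * y)) * t) := by
        calc t * y * t = t * (a * ((x * x) * a)) * y * t := by rw [xx, one_mul, aa]; group
          _ = (t * a) * x * (x * (a * y)) * t := by group
          _ = a * x * t * x * (x * (a * y)) * t := by rw [ta']
          _ = a * x * (t * x) * (x * (a * y)) * t := by group
          _ = a * x * (x * t) * (x * (a * y)) * t := by rw [tx]
          _ = a * (x * x) * t * (x * (a * y)) * t := by group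
          _ = a * t * (x * (a * y)) * t := by rw [xx, mul_one]
          _ = _ := by group
      rw [e]; exact N'.mul_mem haN (hle (h.tN _ hy))
  · intro y hy hyy
    rcases hN' y hy with hy | hy | hy | hy
    · obtain ⟨g, hg, e⟩ := h.cj y hy hyy
      exact ⟨g, hle hg, e⟩
    · -- `a (t y) a = t (a (x y) a)`
      have e : a * (t * y) * a = t * (a * (x * y) * a) := by
        calc a * (t * y) * a = (a * t * a) * (a * y * a) := by
              calc a * (t * y) * a = a * t * 1 * y * a := by group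
                _ = a * t * (a * a) * y * a := by rw [aa]
                _ = _ := by group
          _ = t * x * (a * y * a) := by rw [ata]
          _ = t * (x * a) * y * a := by group
          _ = t * (a * x) * y * a := by rw [xa]
          _ = _ := by group
      obtain ⟨g, hg, e2⟩ := h.cj _ (na _ hy) (by
        rw [← e]
        calc a * (t * y) * a * (a * (t * y) * a) = a * (t * y) * (a * a) * (t * y) * a := by group
          _ = a * (t * y * (t * y)) * a := by rw [aa]; group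
          _ = 1 := by rw [hyy, mul_one, aa])
      refine ⟨a * g, N'.mul_mem haN (hle hg), ?_⟩
      calc t * y = (a * a) * (t * y) * (a * a) := by rw [aa]; group
        _ = a * (a * (t * y) * a) * a := by group
        _ = a * (g * t * g⁻¹) * a⁻¹ := by rw [e, e2, ai]
        _ = _ := by group
    · exfalso; apply xN
      set n := a * y with hn
      have e0 : y = a * n := by rw [hn, ← mul_assoc, aa, one_mul]
      rw [e0] at hyy
      have e1 : x * (t * n * t) * (a * n * a) = 1 := by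
        calc x * (t * n * t) * (a * n * a)
            = a * (a * x * t * n * (t * (a * n))) * a := by
              calc x * (t * n * t) * (a * n * a) = 1 * x * (t * n * t) * (a * n * a) := by group
                _ = (a * a) * x * (t * n * t) * (a * n * a) := by rw [aa]
                _ = _ := by group
          _ = a * (t * a * n * (t * (a * n))) * a := by rw [ta']
          _ = a * (t * (a * n) * (t * (a * n))) * a := by group
          _ = 1 := by rw [hyy, mul_one, aa]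
      have e2 : x = (t * n * t * (a * n * a))⁻¹ := by
        rw [eq_inv_iff_mul_eq_one]
        rw [← e1]; group
      rw [e2]; exact N.inv_mem (N.mul_mem (h.tN _ hy) (na _ hy))
    · exfalso; apply xN
      set n := x * (a * y) with hn
      have e0 : y = a * x * n := by
        rw [hn]
        calc y = (a * a) * y := by rw [aa, one_mul]
          _ = a * 1 * (a * y) := by group
          _ = a * (x * x) * (a * y) := by rw [xx]
          _ = _ := by group
      rw [e0] at hyy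
      have e1 : (a * (t * n * t) * a) * x * n = 1 := by
        rw [← hyy]
        symm
        calc t * (a * x * n) * (t * (a * x * n)) = (t * a) * x * n * (t * a) * x * n := by group
          _ = (a * x * t) * x * n * (t * a) * x * n := by rw [ta']
          _ = a * x * (t * x) * n * (t * a) * x * n := by group
          _ = a * x * (x * t) * n * (t * a) * x * n := by rw [tx]
          _ = a * (x * x) * t * n * (t * a) * x * n := by group
          _ = _ := by rw [xx]; group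
      have e2 : x = (a * (t * n * t) * a)⁻¹ * n⁻¹ := by
        calc x = (a * (t * n * t) * a)⁻¹ * ((a * (t * n * t) * a) * x * n) * n⁻¹ := by group
          _ = _ := by rw [e1, mul_one]
      rw [e2]; exact N.mul_mem (N.inv_mem (na _ (h.tN _ hy))) (N.inv_mem hy)
  · intro y hy hyt
    rcases hN' y hy with hy | hy | hy | hy
    · exact hS1 (h.cen y hy hyt)
    · have h1 : x * y ∈ S := h.cen _ hy (by
        calc x * y * t = x * (y * t) := by group
          _ = x * t * y := by rw [hyt]; group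
          _ = t * x * y := by rw [tx]
          _ = t * (x * y) := by group)
      have e : y = x * (x * y) := by rw [← mul_assoc, xx, one_mul]
      rw [e]; exact hS2 _ h1
    · exfalso; apply xN
      set n := a * y with hn
      have e0 : y = a * n := by rw [hn, ← mul_assoc, aa, one_mul]
      have e1 : x * (t * n * t) = n := by
        calc x * (t * n * t) = a * ((a * x * t) * n * t) := by
              calc x * (t * n * t) = 1 * x * (t * n * t) := by group
                _ = (a * a) * x * (t * n * t) := by rw [aa]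
                _ = _ := by group
          _ = a * ((t * a) * n * t) := by rw [ta']
          _ = a * (t * (a * n) * t) := by group
          _ = a * (t * y * t) := by rw [← e0]
          _ = a * (y * t * t) := by rw [hyt]
          _ = a * y * (t * t) := by group
          _ = n := by rw [tt, mul_one]
      have e2 : x = n * (t * n * t)⁻¹ := by
        rw [eq_mul_inv_iff_mul_eq]; exact e1
      rw [e2]; exact N.mul_mem hy (N.inv_mem (h.tN _ hy))
    · exfalso; apply xN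
      set n := x * (a * y) with hn
      have e0 : y = a * x * n := by
        rw [hn]
        calc y = (a * a) * y := by rw [aa, one_mul]
          _ = a * 1 * (a * y) := by group
          _ = a * (x * x) * (a * y) := by rw [xx]
          _ = _ := by group
      have e1 : a * (t * n * t) = y := by
        calc a * (t * n * t) = a * (x * x) * t * n * t := by rw [xx]; group
          _ = a * x * (x * t) * n * t := by group
          _ = a * x * (t * x) * n * t := by rw [tx]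
          _ = (a * x * t) * x * n * t := by group
          _ = (t * a) * x * n * t := by rw [ta']
          _ = t * (a * x * n) * t := by group
          _ = t * y * t := by rw [← e0]
          _ = y * (t * t) := by rw [← hyt]; group
          _ = y := by rw [tt, mul_one]
      have e2 : x = (t * n * t) * n⁻¹ := by
        have e3 : a * (t * n * t) = a * x * n := by rw [e1, ← e0]
        have e4 : t * n * t = x * n := by
          have : a⁻¹ * (a * (t * n * t)) = a⁻¹ * (a * x * n) := by rw [e3]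
          calc t * n * t = a⁻¹ * (a * (t * n * t)) := by group
            _ = a⁻¹ * (a * x * n) := this
            _ = x * n := by group
        rw [e4]; group
      rw [e2]; exact N.mul_mem (h.tN _ hy) (N.inv_mem hy)

end Cfsg.Agent.OddHalf.UT5.ChainBase

end

-- merged: Cfsg.Agent.OddHalf.UT5.Table
section

/-!
# ODD half, groups with Sylow 2-subgroup `UT(5, 2)`: the chain (helper458)

Text: bb ODD #10902, step (6). For an ideal `l` of positive roots `NN ι α l` is the product of the four-groups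
`⟨x_r, α_r⟩`, `r ∈ l`. It is normal in `U* = NN ι α L10`, and the involution `t` satisfies `Chain` on it.
-/

set_option autoImplicit false
set_option linter.dupNamespace false

namespace Cfsg.Agent.OddHalf.UT5.Table

open Cfsg.Agent.SporadicRecognition.HeldModel Cfsg.Agent.OddHalf.UT5.Model
  Cfsg.Agent.OddHalf.UT5.Core Cfsg.Agent.OddHalf.UT5.ChainBase

variable {G : Type*} [Group G] {t : G} {ι : CC →* G} {α : Fin 5 → Fin 5 → G}

/-- `g` is one of the two generators of the four-group of the root `(i, j)` -/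
def IsGen (ι : CC →* G) (α : Fin 5 → Fin 5 → G) (i j : Fin 5) (g : G) : Prop :=
  g = ι (rt i j) ∨ g = α i j

theorem rt_comm_adj (i j k : Fin 5) (h1 : i < j) (h2 : j < k) :
    rt i j * rt j k * (rt i j)⁻¹ * (rt j k)⁻¹ = rt i k := by
  have e1 : rt i j * rt i k = rt i k * rt i j := rt_comm i j i k h1.ne' (h1.trans h2).ne'
  have e2 : rt j k * rt i k = rt i k * rt j k := rt_comm j k i k (h1.trans h2).ne' h2.ne'
  rw [rt_adj i j k h1 h2]
  calc rt j k * rt i j * rt i k * (rt i j)⁻¹ * (rt j k)⁻¹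
      = rt j k * (rt i j * rt i k) * (rt i j)⁻¹ * (rt j k)⁻¹ := by group
    _ = rt j k * (rt i k * rt i j) * (rt i j)⁻¹ * (rt j k)⁻¹ := by rw [e1]
    _ = rt j k * rt i k * (rt j k)⁻¹ := by group
    _ = rt i k * rt j k * (rt j k)⁻¹ := by rw [e2]
    _ = rt i k := by group

theorem ι_sq (i j : Fin 5) : ι (rt i j) * ι (rt i j) = 1 := by
  rw [← map_mul, rt_sq, map_one]

theorem gen_sq (R : Rel t ι α) {i j : Fin 5} (hij : i < j) {g : G} (hg : IsGen ι α i j g) :
    g * g = 1 := by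
  rcases hg with rfl | rfl
  · exact ι_sq i j
  · exact R.aa i j hij

theorem gen_inv (R : Rel t ι α) {i j : Fin 5} (hij : i < j) {g : G} (hg : IsGen ι α i j g) :
    g⁻¹ = g := inv_eq_of_mul_eq_one_right (gen_sq R hij hg)

theorem gen_comm (R : Rel t ι α) {i j k m : Fin 5} (hij : i < j) (hkm : k < m) {g h : G}
    (hg : IsGen ι α i j g) (hh : IsGen ι α k m h) (h1 : j ≠ k) (h2 : m ≠ i) : g * h = h * g := by
  rcases hg with rfl | rfl <;> rcases hh with rfl | rfl
  · rw [← map_mul, ← map_mul, rt_comm i j k m h1 h2]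
  · exact R.ra i j k m hij hkm h1 h2
  · exact (R.ra k m i j hkm hij h2 h1).symm
  · exact R.al i j k m hij hkm h1 h2

theorem gen_adj (R : Rel t ι α) {i j k : Fin 5} (hij : i < j) (hjk : j < k) {g h : G}
    (hg : IsGen ι α i j g) (hh : IsGen ι α j k h) :
    g * h * g⁻¹ * h⁻¹ ∈ Subgroup.closure (D ι α i k) := by
  rcases hg with rfl | rfl <;> rcases hh with rfl | rfl
  · apply Subgroup.subset_closure
    refine ⟨i, k, le_rfl, le_rfl, Or.inl ?_⟩
    rw [← map_mul, ← map_inv, ← map_mul, ← map_inv, ← map_mul, rt_comm_adj i j k hij hjk]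
  · exact R.xa i j k hij hjk
  · exact R.ax i j k hij hjk
  · exact R.adj i j k hij hjk

/-- the generators -/
def gens (ι : CC →* G) (α : Fin 5 → Fin 5 → G) (l : List (Fin 5 × Fin 5)) : Set G :=
  {g | ∃ p ∈ l, IsGen ι α p.1 p.2 g}

/-- the product of the four-groups `⟨x_r, α_r⟩`, `r ∈ l` -/
def NN (ι : CC →* G) (α : Fin 5 → Fin 5 → G) (l : List (Fin 5 × Fin 5)) : Subgroup G :=
  Subgroup.closure (gens ι α l)

def Up (l : List (Fin 5 × Fin 5)) : Prop := ∀ p ∈ l, p.1 < p.2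

def Ideal (l : List (Fin 5 × Fin 5)) : Prop :=
  ∀ p ∈ l, ∀ a b : Fin 5, a ≤ p.1 → p.2 ≤ b → (a, b) ∈ l

instance (l : List (Fin 5 × Fin 5)) : Decidable (Up l) := by unfold Up; infer_instance
instance (l : List (Fin 5 × Fin 5)) : Decidable (Ideal l) := by unfold Ideal; infer_instance

theorem gen_mem {l : List (Fin 5 × Fin 5)} {i j : Fin 5} (h : (i, j) ∈ l) {g : G}
    (hg : IsGen ι α i j g) : g ∈ NN ι α l := Subgroup.subset_closure ⟨(i, j), h, hg⟩

theorem NN_mono {l m : List (Fin 5 × Fin 5)} (h : ∀ p ∈ l, p ∈ m) : NN ι α l ≤ NN ι α m := by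
  apply Subgroup.closure_mono
  rintro g ⟨p, hp, hg⟩
  exact ⟨p, h p hp, hg⟩

theorem closure_D_le {l : List (Fin 5 × Fin 5)} {i k : Fin 5}
    (h : ∀ a b : Fin 5, a ≤ i → k ≤ b → (a, b) ∈ l) :
    Subgroup.closure (D ι α i k) ≤ NN ι α l := by
  apply Subgroup.closure_mono
  rintro g ⟨p, q, hp, hq, hg⟩
  exact ⟨(p, q), h p q hp hq, hg⟩

theorem comm_mem (R : Rel t ι α) {l : List (Fin 5 × Fin 5)} {i j k m : Fin 5} (hij : i < j)
    (hkm : k < m) {g h : G} (hg : IsGen ι α i j g) (hh : IsGen ι α k m h)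
    (h1 : j = k → ∀ a b : Fin 5, a ≤ i → m ≤ b → (a, b) ∈ l)
    (h2 : m = i → ∀ a b : Fin 5, a ≤ k → j ≤ b → (a, b) ∈ l) :
    g * h * g⁻¹ * h⁻¹ ∈ NN ι α l := by
  by_cases e1 : j = k
  · subst e1
    exact closure_D_le (h1 rfl) (gen_adj R hij hkm hg hh)
  · by_cases e2 : m = i
    · subst e2
      have h3 := (NN ι α l).inv_mem (closure_D_le (h2 rfl) (gen_adj R hkm hij hh hg))
      have e : (h * g * h⁻¹ * g⁻¹)⁻¹ = g * h * g⁻¹ * h⁻¹ := by group
      rwa [e] at h3
    · have e : g * h * g⁻¹ * h⁻¹ = 1 := by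
        rw [gen_comm R hij hkm hg hh e1 e2]; group
      rw [e]; exact Subgroup.one_mem _

/-- `NN l` is normalised by all generators -/
theorem gen_conj (R : Rel t ι α) {l : List (Fin 5 × Fin 5)} (hU : Up l) (hI : Ideal l)
    {i j : Fin 5} (hij : i < j) {g : G} (hg : IsGen ι α i j g) :
    ∀ n ∈ NN ι α l, g * n * g⁻¹ ∈ NN ι α l := by
  intro n hn
  induction hn using Subgroup.closure_induction with
  | mem h hh =>
    obtain ⟨⟨k, m⟩, hp, hh⟩ := hh
    have hkm : k < m := hU _ hp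
    have h1 : g * h * g⁻¹ * h⁻¹ ∈ NN ι α l := by
      apply comm_mem R hij hkm hg hh
      · rintro rfl a b ha hb
        exact hI _ hp a b (ha.trans hij.le) hb
      · rintro rfl a b ha hb
        exact hI _ hp a b ha (hij.le.trans hb)
    have e : g * h * g⁻¹ = g * h * g⁻¹ * h⁻¹ * h := by group
    rw [e]
    exact (NN ι α l).mul_mem h1 (gen_mem hp hh)
  | one => rw [mul_one, mul_inv_cancel]; exact Subgroup.one_mem _
  | mul x y _ _ hx hy =>
    have e : g * (x * y) * g⁻¹ = g * x * g⁻¹ * (g * y * g⁻¹) := by group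
    rw [e]; exact (NN ι α l).mul_mem hx hy
  | inv x _ hx =>
    have e : g * x⁻¹ * g⁻¹ = (g * x * g⁻¹)⁻¹ := by group
    rw [e]; exact (NN ι α l).inv_mem hx

theorem gen_conj' (R : Rel t ι α) {l : List (Fin 5 × Fin 5)} (hU : Up l) (hI : Ideal l)
    {i j : Fin 5} (hij : i < j) {g : G} (hg : IsGen ι α i j g) :
    ∀ n ∈ NN ι α l, g * n * g ∈ NN ι α l := by
  intro n hn
  have h1 := gen_conj R hU hI hij hg n hn
  rwa [gen_inv R hij hg] at h1

/-- `NN l` is normalised by `NN m` -/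
theorem NN_conj_both (R : Rel t ι α) {l m : List (Fin 5 × Fin 5)} (hU : Up l) (hI : Ideal l)
    (hm : Up m) {u : G} (hu : u ∈ NN ι α m) :
    (∀ n ∈ NN ι α l, u * n * u⁻¹ ∈ NN ι α l) ∧ ∀ n ∈ NN ι α l, u⁻¹ * n * u ∈ NN ι α l := by
  induction hu using Subgroup.closure_induction with
  | mem h hh =>
    obtain ⟨⟨i, j⟩, hp, hh⟩ := hh
    have h1 := gen_conj' R hU hI (hm _ hp) hh
    have e : h⁻¹ = h := gen_inv R (hm _ hp) hh
    rw [e]
    exact ⟨h1, h1⟩
  | one =>
    constructor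
    · intro n hn; rwa [one_mul, inv_one, mul_one]
    · intro n hn; rwa [inv_one, one_mul, mul_one]
  | mul x y _ _ hx hy =>
    constructor
    · intro n hn
      have e : x * y * n * (x * y)⁻¹ = x * (y * n * y⁻¹) * x⁻¹ := by group
      rw [e]; exact hx.1 _ (hy.1 _ hn)
    · intro n hn
      have e : (x * y)⁻¹ * n * (x * y) = y⁻¹ * (x⁻¹ * n * x) * y := by group
      rw [e]; exact hy.2 _ (hx.2 _ hn)
  | inv x _ hx =>
    rw [inv_inv]
    exact ⟨hx.2, hx.1⟩

theorem NN_conj (R : Rel t ι α) {l m : List (Fin 5 × Fin 5)} (hU : Up l) (hI : Ideal l)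
    (hm : Up m) {u : G} (hu : u ∈ NN ι α m) : ∀ n ∈ NN ι α l, u * n * u⁻¹ ∈ NN ι α l :=
  (NN_conj_both R hU hI hm hu).1

theorem NN_conj' (R : Rel t ι α) {l m : List (Fin 5 × Fin 5)} (hU : Up l) (hI : Ideal l)
    (hm : Up m) {u : G} (hu : u ∈ NN ι α m) : ∀ n ∈ NN ι α l, u⁻¹ * n * u ∈ NN ι α l :=
  (NN_conj_both R hU hI hm hu).2

/-! ### The elements of `C(t)` -/

/-- the pattern of a list of roots -/
def PL (l : List (Fin 5 × Fin 5)) (i j : Fin 5) : Bool := decide ((i, j) ∈ l)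

/-- the elements `ι c`, `c` with pattern `l` -/
def SL (ι : CC →* G) (l : List (Fin 5 × Fin 5)) : Set G :=
  {g | ∃ c : CC, Pat (PL l) (c : L5) ∧ ι c = g}

theorem one_mem_SL (l : List (Fin 5 × Fin 5)) : (1 : G) ∈ SL ι l :=
  ⟨1, by rw [Subgroup.coe_one]; exact Pat.one _, map_one ι⟩

theorem inCC_up : ∀ i j : Fin 5, i < j → inCC (Lib.F2Mat.one 5 + 2 ^ (5 * (i : ℕ) + j)) = true := by
  decide +kernel

theorem rt_val' {i j : Fin 5} (h : i < j) : (rt i j : L5) = x i j h.ne :=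
  rt_val i j h.ne (inCC_up i j h)

theorem pat_rt {l : List (Fin 5 × Fin 5)} {i j : Fin 5} (h : i < j) (hl : (i, j) ∈ l) :
    Pat (PL l) (rt i j : L5) := by
  rw [rt_val' h]
  intro k m hkm
  rw [coe_x, Matrix.sub_apply, transvection_apply', Matrix.one_apply, add_sub_cancel_left]
  rw [if_neg]
  rintro ⟨rfl, rfl⟩
  simp [PL, hl] at hkm

theorem not_pat_rt {l : List (Fin 5 × Fin 5)} {i j : Fin 5} (h : i < j) (hl : (i, j) ∉ l) :
    ¬ Pat (PL l) (rt i j : L5) := by
  rw [rt_val' h]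
  intro hp
  have h1 := hp i j (by simp [PL, hl])
  rw [coe_x, Matrix.sub_apply, transvection_apply', Matrix.one_apply, add_sub_cancel_left,
    if_pos ⟨rfl, rfl⟩] at h1
  exact absurd h1 (by decide)

theorem Pat_mono {P Q : Fin 5 → Fin 5 → Bool} (h : ∀ i j, P i j = true → Q i j = true) {g : L5}
    (hg : Pat P g) : Pat Q g := by
  intro i j hij
  apply hg i j
  cases h1 : P i j with
  | false => rfl
  | true => rw [h i j h1] at hij; exact absurd hij (by decide)

theorem tinv (R : Rel t ι α) : t⁻¹ = t := inv_eq_of_mul_eq_one_right R.tt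

/-- the product decomposition -/
theorem decomp (R : Rel t ι α) {i j : Fin 5} {l : List (Fin 5 × Fin 5)}
    (hU : Up ((i, j) :: l)) (hI : Ideal l) : ∀ y ∈ NN ι α ((i, j) :: l),
    y ∈ NN ι α l ∨ ι (rt i j) * y ∈ NN ι α l ∨ α i j * y ∈ NN ι α l ∨
      ι (rt i j) * (α i j * y) ∈ NN ι α l := by
  have hij : i < j := hU _ List.mem_cons_self
  have hUl : Up l := fun p hp => hU p (List.mem_cons_of_mem _ hp)
  have hx : IsGen ι α i j (ι (rt i j)) := Or.inl rfl
  have ha : IsGen ι α i j (α i j) := Or.inr rfl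
  have xx := ι_sq (ι := ι) i j
  have aa := R.aa i j hij
  have xa : ι (rt i j) * α i j = α i j * ι (rt i j) :=
    gen_comm R hij hij hx ha hij.ne' hij.ne'
  have xi : (ι (rt i j))⁻¹ = ι (rt i j) := inv_eq_of_mul_eq_one_right xx
  have ai : (α i j)⁻¹ = α i j := inv_eq_of_mul_eq_one_right aa
  have nx := gen_conj' R hUl hI hij hx
  have na := gen_conj' R hUl hI hij ha
  have h1 : ∀ n ∈ NN ι α l, (ι (rt i j))⁻¹ * n * ι (rt i j) ∈ NN ι α l := by
    intro n hn; rw [xi]; exact nx n hn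
  have h3 : ι (rt i j) * ι (rt i j) ∈ NN ι α l := by rw [xx]; exact Subgroup.one_mem _
  set N1 := ext (NN ι α l) (ι (rt i j)) h1 h3 with hN1
  have h2 : ∀ n ∈ N1, (α i j)⁻¹ * n * α i j ∈ N1 := by
    rintro n (hn | hn)
    · refine Or.inl ?_
      rw [ai]; exact na n hn
    · refine Or.inr ?_
      have e : (ι (rt i j))⁻¹ * ((α i j)⁻¹ * n * α i j) =
          α i j * ((ι (rt i j))⁻¹ * n) * α i j := by
        rw [xi, ai]
        calc ι (rt i j) * (α i j * n * α i j) = (ι (rt i j) * α i j) * n * α i j := by group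
          _ = (α i j * ι (rt i j)) * n * α i j := by rw [xa]
          _ = _ := by group
      rw [e]; exact na _ hn
  have h4 : α i j * α i j ∈ N1 := by rw [aa]; exact Subgroup.one_mem _
  have h5 : NN ι α ((i, j) :: l) ≤ ext N1 (α i j) h2 h4 := by
    show Subgroup.closure _ ≤ _
    rw [Subgroup.closure_le]
    rintro g ⟨p, hp, hg⟩
    rcases List.mem_cons.1 hp with rfl | hp
    · rcases hg with rfl | rfl
      · exact Or.inl self_mem_ext
      · exact self_mem_ext
    · exact Or.inl (Or.inl (gen_mem hp hg))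
  intro y hy
  rcases h5 hy with (h6 | h6) | (h6 | h6)
  · exact Or.inl h6
  · rw [xi] at h6; exact Or.inr (Or.inl h6)
  · rw [ai] at h6; exact Or.inr (Or.inr (Or.inl h6))
  · rw [ai, xi] at h6; exact Or.inr (Or.inr (Or.inr h6))

/-- the elements of the four-group `⟨x_ij, α_ij⟩` -/
def IsW (ι : CC →* G) (α : Fin 5 → Fin 5 → G) (i j : Fin 5) (w : G) : Prop :=
  w = 1 ∨ w = ι (rt i j) ∨ w = α i j ∨ w = α i j * ι (rt i j)

theorem IsW.mem {l : List (Fin 5 × Fin 5)} {i j : Fin 5} (h : (i, j) ∈ l) {w : G}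
    (hw : IsW ι α i j w) : w ∈ NN ι α l := by
  rcases hw with rfl | rfl | rfl | rfl
  · exact Subgroup.one_mem _
  · exact gen_mem h (Or.inl rfl)
  · exact gen_mem h (Or.inr rfl)
  · exact Subgroup.mul_mem _ (gen_mem h (Or.inr rfl)) (gen_mem h (Or.inl rfl))

theorem decomp' (R : Rel t ι α) {i j : Fin 5} {l : List (Fin 5 × Fin 5)}
    (hU : Up ((i, j) :: l)) (hI : Ideal l) {y : G} (hy : y ∈ NN ι α ((i, j) :: l)) :
    ∃ n ∈ NN ι α l, ∃ w, IsW ι α i j w ∧ y = n * w := by
  have hij : i < j := hU _ List.mem_cons_self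
  have hUl : Up l := fun p hp => hU p (List.mem_cons_of_mem _ hp)
  have xx := ι_sq (ι := ι) i j
  have aa := R.aa i j hij
  have hx : IsGen ι α i j (ι (rt i j)) := Or.inl rfl
  have ha : IsGen ι α i j (α i j) := Or.inr rfl
  have xa : ι (rt i j) * α i j = α i j * ι (rt i j) :=
    gen_comm R hij hij hx ha hij.ne' hij.ne'
  have nx := gen_conj' R hUl hI hij hx
  have na := gen_conj' R hUl hI hij ha
  rcases decomp R hU hI y hy with h | h | h | h
  · exact ⟨y, h, 1, Or.inl rfl, (mul_one y).symm⟩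
  · refine ⟨_, nx _ h, _, Or.inr (Or.inl rfl), ?_⟩
    calc y = (ι (rt i j) * ι (rt i j)) * y * (ι (rt i j) * ι (rt i j)) := by rw [xx]; group
      _ = _ := by group
  · refine ⟨_, na _ h, _, Or.inr (Or.inr (Or.inl rfl)), ?_⟩
    calc y = (α i j * α i j) * y * (α i j * α i j) := by rw [aa]; group
      _ = _ := by group
  · refine ⟨_, na _ (nx _ h), _, Or.inr (Or.inr (Or.inr rfl)), ?_⟩
    have e1 : α i j * ι (rt i j) * (ι (rt i j) * α i j) = 1 := by
      calc α i j * ι (rt i j) * (ι (rt i j) * α i j)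
          = α i j * (ι (rt i j) * ι (rt i j)) * α i j := by group
        _ = α i j * α i j := by rw [xx, mul_one]
        _ = 1 := aa
    have e2 : ι (rt i j) * (α i j * α i j) * ι (rt i j) = 1 := by rw [aa, mul_one, xx]
    calc y = 1 * y * 1 := by group
      _ = (α i j * ι (rt i j) * (ι (rt i j) * α i j)) * y *
          (ι (rt i j) * (α i j * α i j) * ι (rt i j)) := by rw [e1, e2]
      _ = α i j * (ι (rt i j) * (ι (rt i j) * (α i j * y)) * ι (rt i j)) * α i j *
          (α i j * ι (rt i j)) := by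
        calc _ = α i j * ι (rt i j) * (ι (rt i j) * α i j) * y *
            (ι (rt i j) * α i j) * (α i j * ι (rt i j)) := by group
          _ = _ := by group

/-- the step from `l` to `(i, j) :: l` -/
theorem chain_cons (R : Rel t ι α) {i j : Fin 5} {l : List (Fin 5 × Fin 5)}
    (hU : Up ((i, j) :: l)) (hI : Ideal l) (hT : Tr (PL ((i, j) :: l))) (hn : (i, j) ∉ l)
    (h : Chain t (NN ι α l) (SL ι l)) :
    Chain t (NN ι α ((i, j) :: l)) (SL ι ((i, j) :: l)) := by
  have hij : i < j := hU _ List.mem_cons_self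
  have hUl : Up l := fun p hp => hU p (List.mem_cons_of_mem _ hp)
  have hx : IsGen ι α i j (ι (rt i j)) := Or.inl rfl
  have ha : IsGen ι α i j (α i j) := Or.inr rfl
  have xx := ι_sq (ι := ι) i j
  have aa := R.aa i j hij
  have xa : ι (rt i j) * α i j = α i j * ι (rt i j) :=
    gen_comm R hij hij hx ha hij.ne' hij.ne'
  have na := gen_conj' R hUl hI hij ha
  refine Chain.step (x := ι (rt i j)) (a := α i j) R.tt h xx aa xa (R.ta i j hij)
    (R.tr _).symm ?_ na (decomp R hU hI) (NN_mono fun p hp => List.mem_cons_of_mem _ hp)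
    (gen_mem List.mem_cons_self hx) (gen_mem List.mem_cons_self ha) ?_ ?_
  · rintro ⟨c, hc, e⟩
    rw [R.inj e] at hc
    exact not_pat_rt hij hn hc
  · rintro g ⟨c, hc, rfl⟩
    refine ⟨c, Pat_mono (fun k m hkm => ?_) hc, rfl⟩
    simp only [PL, decide_eq_true_eq] at hkm ⊢
    exact List.mem_cons_of_mem _ hkm
  · rintro g ⟨c, hc, rfl⟩
    refine ⟨rt i j * c, ?_, map_mul _ _ _⟩
    rw [Subgroup.coe_mul]
    refine Pat.mul hT (pat_rt hij List.mem_cons_self) (Pat_mono (fun k m hkm => ?_) hc)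
    simp only [PL, decide_eq_true_eq] at hkm ⊢
    exact List.mem_cons_of_mem _ hkm

theorem chain_nil (R : Rel t ι α) : Chain t (NN ι α []) (SL ι []) := by
  have e : NN ι α [] = ⊥ := by
    unfold NN
    have : gens ι α [] = ∅ := by
      ext g; constructor
      · rintro ⟨p, hp, _⟩; exact absurd hp (List.not_mem_nil)
      · intro h; exact absurd h (Set.notMem_empty _)
    rw [this, Subgroup.closure_empty]
  rw [e]
  exact Chain.bot R.tt (one_mem_SL _)

/-! ### The ten steps -/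

abbrev L3 : List (Fin 5 × Fin 5) := [(1, 4), (0, 3), (0, 4)]
/-- first row and last column -/
abbrev L7 : List (Fin 5 × Fin 5) := (3, 4) :: (2, 4) :: (0, 1) :: (0, 2) :: L3
abbrev L8 : List (Fin 5 × Fin 5) := (1, 3) :: L7
abbrev L9 : List (Fin 5 × Fin 5) := (1, 2) :: L8
abbrev L10 : List (Fin 5 × Fin 5) := (2, 3) :: L9

theorem chain3 (R : Rel t ι α) : Chain t (NN ι α L3) (SL ι L3) :=
  chain_cons R (by decide) (by decide) (by decide) (by decide) <|
  chain_cons R (by decide) (by decide) (by decide) (by decide) <|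
  chain_cons R (by decide) (by decide) (by decide) (by decide) <| chain_nil R

theorem chain7 (R : Rel t ι α) : Chain t (NN ι α L7) (SL ι L7) :=
  chain_cons R (by decide) (by decide) (by decide) (by decide) <|
  chain_cons R (by decide) (by decide) (by decide) (by decide) <|
  chain_cons R (by decide) (by decide) (by decide) (by decide) <|
  chain_cons R (by decide) (by decide) (by decide) (by decide) <| chain3 R

theorem chain8 (R : Rel t ι α) : Chain t (NN ι α L8) (SL ι L8) :=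
  chain_cons R (by decide) (by decide) (by decide) (by decide) <| chain7 R

theorem chain9 (R : Rel t ι α) : Chain t (NN ι α L9) (SL ι L9) :=
  chain_cons R (by decide) (by decide) (by decide) (by decide) <| chain8 R

theorem chain10 (R : Rel t ι α) : Chain t (NN ι α L10) (SL ι L10) :=
  chain_cons R (by decide) (by decide) (by decide) (by decide) <| chain9 R

end Cfsg.Agent.OddHalf.UT5.Table

end

-- merged: Cfsg.Agent.OddHalf.UT5.EndModel
section

/-!
# ODD half, groups with Sylow 2-subgroup `UT(5, 2)`: model facts for the transfer (helper458)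

Fourth powers in `T0`, `N_{CC}(T0) = T0`, `tauC` is not inner.
-/

set_option autoImplicit false
set_option linter.dupNamespace false

namespace Cfsg.Agent.OddHalf.UT5.EndModel

open Cfsg.Agent.SporadicRecognition.HeldModel Cfsg.Agent.OddHalf.UT5.Model
  Cfsg.Agent.OddHalf.UT5.Core Cfsg.Agent.OddHalf.UT5.ChainBase Cfsg.Agent.OddHalf.UT5.Table
  Cfsg.Agent.Lib.F2Mat

theorem chk_pow4 : allR (fun a => force (tc a) fun A => force (mul 5 A A) fun B =>
    force (mul 5 B B) fun C => Nat.beq C 17043521 || Nat.beq C 17043537) 10 0 = true := by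
  decide +kernel

/-- fourth powers in `T0` -/
theorem pow4 {g : L5} (hg : g ∈ T0) : g ^ 4 = 1 ∨ g ^ 4 = zz := by
  obtain ⟨a, ha, e⟩ := exists_tc hg
  have h := allR_zero chk_pow4 a (by simpa using ha)
  rw [force_eq, force_eq, force_eq, Bool.or_eq_true] at h
  have e4 : g ^ 4 = g * g * (g * g) := by
    rw [show (4 : ℕ) = 2 + 2 from rfl, pow_add, pow_two]
  have ec : cd (g ^ 4) = mul 5 (mul 5 (tc a) (tc a)) (mul 5 (tc a) (tc a)) := by
    rw [e4, cd_mul, cd_mul, e]
  rcases h with h | h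
  · left
    apply cd_inj
    rw [ec, cd_one, one_five]; exact Nat.eq_of_beq_eq_true h
  · right
    apply cd_inj
    rw [ec, cd_zz]; exact Nat.eq_of_beq_eq_true h

theorem pow4C {c : CC} (hc : (c : L5) ∈ T0) : c ^ 4 = 1 ∨ c ^ 4 = zC := by
  rcases pow4 hc with h | h
  · left; apply Subtype.ext; rw [Subgroup.coe_pow, h]; rfl
  · right; apply Subtype.ext; rw [Subgroup.coe_pow, h]; rfl

theorem zC_sq : zC * zC = 1 := by rw [← rt_04, rt_sq]

theorem pow8C {c : CC} (hc : (c : L5) ∈ T0) : c ^ 8 = 1 := by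
  have e : c ^ 8 = c ^ 4 * c ^ 4 := by
    rw [show (8 : ℕ) = 4 + 4 from rfl, pow_add]
  rw [e]
  rcases pow4C hc with h | h
  · rw [h, one_mul]
  · rw [h, zC_sq]

/-- `x01 x34 x12 x23`, an element of order `8` -/
def g0 : CC := rt 0 1 * rt 3 4 * (rt 1 2 * rt 2 3)

theorem g0_pow : g0 ^ 4 = zC := by
  have e : g0 = pr [(0, 1), (3, 4), (1, 2), (2, 3)] := by
    unfold g0; simp only [pr_cons, pr_nil, mul_one, mul_assoc]
  have e2 : zC = pr [(0, 4)] := by rw [pr_cons, pr_nil, mul_one, rt_04]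
  have e4 : g0 ^ 4 = g0 * (g0 * (g0 * g0)) := by
    rw [show (4 : ℕ) = 1 + 1 + 1 + 1 from rfl, pow_add, pow_add, pow_add, pow_one, mul_assoc,
      mul_assoc]
  rw [e4, e, e2, ← pr_append, ← pr_append, ← pr_append]
  apply pr_eq
  decide +kernel

theorem rt_mem_T0 {i j : Fin 5} (h : i < j) : (rt i j : L5) ∈ T0 := by
  rw [rt_val' h]; exact x_mem_T0 h

theorem g0_mem : (g0 : L5) ∈ T0 := by
  unfold g0
  rw [Subgroup.coe_mul, Subgroup.coe_mul, Subgroup.coe_mul]
  exact T0.mul_mem (T0.mul_mem (rt_mem_T0 (by decide)) (rt_mem_T0 (by decide)))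
    (T0.mul_mem (rt_mem_T0 (by decide)) (rt_mem_T0 (by decide)))

theorem PL_L10 : PL L10 = PT := by
  funext i j; revert i j; decide

theorem mem_SL10 {G : Type*} [Group G] {ι : CC →* G} {g : G} :
    g ∈ SL ι L10 ↔ ∃ c : CC, (c : L5) ∈ T0 ∧ ι c = g := by
  unfold SL
  rw [PL_L10]; rfl

/-- `N_{CC}(T0) = T0` -/
theorem norm_T0 {g : L5} (hC : g ∈ CC) (h : ∀ w ∈ T0, g⁻¹ * w * g ∈ T0) : g ∈ T0 := by
  set M := (g : Matrix (Fin 5) (Fin 5) (ZMod 2)) with hM
  have hP := mem_CC_iff_pat.1 hC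
  have c0 : ∀ i : Fin 5, i ≠ 0 → M i 0 = 0 := by
    intro i hi
    have := hP i 0 (by simp [PC])
    rwa [Matrix.sub_apply, Matrix.one_apply_ne hi, sub_zero] at this
  have r4 : ∀ j : Fin 5, j ≠ 4 → M 4 j = 0 := by
    intro j hj
    have := hP 4 j (by simp [PC])
    rwa [Matrix.sub_apply, Matrix.one_apply_ne (Ne.symm hj), sub_zero] at this
  -- the equation `E_ij M = M n`
  have key : ∀ i j : Fin 5, i < j → ∃ n : Matrix (Fin 5) (Fin 5) (ZMod 2),
      (∀ k l, ¬ k < l → n k l = 0) ∧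
      ∀ k l, (if k = i then M j l else 0) = ∑ m, M k m * n m l := by
    intro i j hij
    have h1 := h _ (x_mem_T0 hij)
    set w := g⁻¹ * x i j hij.ne * g with hw
    refine ⟨(w : Matrix (Fin 5) (Fin 5) (ZMod 2)) - 1, fun k l hkl => h1 k l (by simp [PT, hkl]), ?_⟩
    intro k l
    have e1 : x i j hij.ne * g = g * w := by rw [hw]; group
    have e2 : ((x i j hij.ne * g : L5) : Matrix (Fin 5) (Fin 5) (ZMod 2)) =
      Matrix.transvection i j 1 * M := rfl
    have e3 : ((g * w : L5) : Matrix (Fin 5) (Fin 5) (ZMod 2)) =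
      M * (w : Matrix (Fin 5) (Fin 5) (ZMod 2)) := rfl
    have e4 : Matrix.single i j (1 : ZMod 2) * M =
        M * ((w : Matrix (Fin 5) (Fin 5) (ZMod 2)) - 1) := by
      have e5 : Matrix.transvection i j 1 * M = M * (w : Matrix (Fin 5) (Fin 5) (ZMod 2)) := by
        rw [← e2, ← e3, e1]
      rw [mul_sub, mul_one, ← e5, Matrix.transvection, add_mul, one_mul, add_sub_cancel_left]
    have e6 : (Matrix.single i j (1 : ZMod 2) * M) k l = if k = i then M j l else 0 := by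
      by_cases hk : k = i
      · rw [if_pos hk, hk]; simp
      · rw [if_neg hk, Matrix.single_mul_apply_of_ne]; exact hk
    rw [← e6, e4, Matrix.mul_apply]
  have m21 : M 2 1 = 0 := by
    obtain ⟨n, hn, he⟩ := key 1 2 (by decide)
    have := he 1 1
    rw [if_pos rfl, Fin.sum_univ_five, hn 1 1 (by decide), hn 2 1 (by decide), hn 3 1 (by decide),
      hn 4 1 (by decide), c0 1 (by decide)] at this
    simpa using this
  have m31 : M 3 1 = 0 := by
    obtain ⟨n, hn, he⟩ := key 1 3 (by decide)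
    have := he 1 1
    rw [if_pos rfl, Fin.sum_univ_five, hn 1 1 (by decide), hn 2 1 (by decide), hn 3 1 (by decide),
      hn 4 1 (by decide), c0 1 (by decide)] at this
    simpa using this
  have m32 : M 3 2 = 0 := by
    obtain ⟨n, hn, he⟩ := key 2 3 (by decide)
    have := he 2 2
    rw [if_pos rfl, Fin.sum_univ_five, hn 2 2 (by decide), hn 3 2 (by decide),
      hn 4 2 (by decide), c0 2 (by decide), m21] at this
    simpa using this
  have lower : ∀ i j : Fin 5, j < i → M i j = 0 := by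
    intro i j hij
    by_cases hj : j = 0
    · subst hj; exact c0 i hij.ne'
    by_cases hi : i = 4
    · subst hi; exact r4 j hij.ne
    have h3 : (i = 2 ∧ j = 1) ∨ (i = 3 ∧ j = 1) ∨ (i = 3 ∧ j = 2) := by
      revert i j; decide
    rcases h3 with ⟨rfl, rfl⟩ | ⟨rfl, rfl⟩ | ⟨rfl, rfl⟩
    · exact m21
    · exact m31
    · exact m32
  have hdet : M.det = ∏ i, M i i := Matrix.det_of_isUpperTriangular (fun i j hij => lower i j hij)
  have hd1 : M.det = 1 := g.2
  rw [hd1] at hdet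
  have diag : ∀ i, M i i = 1 := by
    intro i
    rcases zmod2_cases (M i i) with h0 | h0
    · exfalso
      have h5 : ∏ i, M i i = 0 := Finset.prod_eq_zero (Finset.mem_univ i) h0
      exact absurd (hdet.trans h5) (by decide)
    · exact h0
  intro i j hij
  have hij' : ¬ i < j := by simpa [PT] using hij
  rw [Matrix.sub_apply]
  rcases lt_trichotomy i j with h1 | h1 | h1
  · exact absurd h1 hij'
  · subst h1
    rw [Matrix.one_apply_eq, sub_eq_zero]; exact diag i
  · rw [Matrix.one_apply_ne h1.ne', sub_zero]; exact lower i j h1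

/-- `tauC` is not inner -/
theorem tau_not_inner (c : CC) (h : ∀ x : CC, tauC x = c⁻¹ * x * c) : False := by
  have h1 := h (rt 0 1)
  rw [tauC_rt] at h1
  have h2 : ((rt 0 1 : CC) : L5) ∈ R1 := by
    rw [mem_R1_iff, cd_rt]; decide +kernel
  have h3 := R1_conj (CC.inv_mem c.2) h2
  have h4 : ((rt (1 : Fin 5).rev (0 : Fin 5).rev : CC) : L5) ∈ R1 := by
    rw [h1]
    rw [inv_inv] at h3
    exact h3
  rw [mem_R1_iff, cd_rt] at h4
  revert h4; decide +kernel

/-! ### `T0` is generated by the root elements -/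

/-- (bit, root, code of the root element) -/
def WL : List (ℕ × Fin 5 × Fin 5 × ℕ) :=
  [(3, 0, 4, 17043537), (6, 1, 4, 17044033), (8, 2, 4, 17059905), (9, 3, 4, 17567809),
   (2, 0, 3, 17043529), (5, 1, 3, 17043777), (7, 2, 3, 17051713), (1, 0, 2, 17043525),
   (4, 1, 2, 17043649), (0, 0, 1, 17043523)]

def cel : List (ℕ × Fin 5 × Fin 5 × ℕ) → ℕ → ℕ
  | [], _ => 17043521
  | p :: l, a => cond (a.testBit p.1) (mul 5 p.2.2.2 (cel l a)) (cel l a)

/-- the product of the root elements with the bits of `a` -/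
def el : List (ℕ × Fin 5 × Fin 5 × ℕ) → ℕ → CC
  | [], _ => 1
  | p :: l, a => cond (a.testBit p.1) (rt p.2.1 p.2.2.1 * el l a) (el l a)

theorem cd_el (l : List (ℕ × Fin 5 × Fin 5 × ℕ)) (hl : ∀ p ∈ l, crt p.2.1 p.2.2.1 = p.2.2.2)
    (a : ℕ) : cd (el l a : L5) = cel l a := by
  induction l with
  | nil => exact cd_one.trans one_five
  | cons p l ih =>
    have ih' := ih fun q hq => hl q (List.mem_cons_of_mem _ hq)
    have hp := hl p List.mem_cons_self
    unfold el cel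
    cases h : a.testBit p.1 with
    | false => exact ih'
    | true =>
      show cd ((rt p.2.1 p.2.2.1 * el l a : CC) : L5) = mul 5 p.2.2.2 (cel l a)
      rw [Subgroup.coe_mul, cd_mul, cd_rt, hp, ih']

theorem chk_WL : ∀ p ∈ WL, crt p.2.1 p.2.2.1 = p.2.2.2 := by decide +kernel

theorem chk_cel : allR (fun a => force a fun a => Nat.beq (cel WL a) (tc a)) 10 0 = true := by
  decide +kernel

theorem exists_el {c : CC} (hc : (c : L5) ∈ T0) : ∃ a, c = el WL a := by
  obtain ⟨a, ha, e⟩ := exists_tc hc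
  have h := allR_zero chk_cel a (by simpa using ha)
  rw [force_eq] at h
  exact ⟨a, eq_of_cd (by rw [cd_el WL chk_WL, e, Nat.eq_of_beq_eq_true h])⟩

theorem WL_L10 : ∀ p ∈ WL, (p.2.1, p.2.2.1) ∈ L10 := by decide

theorem el_mem {G : Type*} [Group G] {ι : CC →* G} {α : Fin 5 → Fin 5 → G}
    (l : List (ℕ × Fin 5 × Fin 5 × ℕ)) (hl : ∀ p ∈ l, (p.2.1, p.2.2.1) ∈ L10) (a : ℕ) :
    ι (el l a) ∈ NN ι α L10 := by
  induction l with
  | nil => exact (map_one ι).symm ▸ Subgroup.one_mem _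
  | cons p l ih =>
    have ih' := ih fun q hq => hl q (List.mem_cons_of_mem _ hq)
    unfold el
    cases h : a.testBit p.1 with
    | false => exact ih'
    | true =>
      show ι (rt p.2.1 p.2.2.1 * el l a) ∈ _
      rw [map_mul]
      exact Subgroup.mul_mem _ (gen_mem (hl p List.mem_cons_self) (Or.inl rfl)) ih'

theorem ιT0_mem {G : Type*} [Group G] {ι : CC →* G} {α : Fin 5 → Fin 5 → G} {c : CC}
    (hc : (c : L5) ∈ T0) : ι c ∈ NN ι α L10 := by
  obtain ⟨a, rfl⟩ := exists_el hc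
  exact el_mem WL WL_L10 a

section rel

variable {G : Type*} [Group G] {t : G} {ι : CC →* G} {α : Fin 5 → Fin 5 → G}

theorem ι04_ne (R : Rel t ι α) : ι (rt 0 4) ≠ 1 := by
  intro h
  rw [rt_04] at h
  have : (zC : CC) = 1 := R.inj (h.trans (map_one ι).symm)
  have h1 : cd (zC : L5) = cd ((1 : CC) : L5) := by rw [this]
  rw [Subgroup.coe_one, cd_one] at h1
  have h2 : cd (zC : L5) = zc := cd_zz
  rw [h2] at h1
  revert h1; decide +kernel

/-- `t` is not in the image of `ι` -/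
theorem t_notMem (R : Rel t ι α) (c : CC) : t ≠ ι c := by
  intro e
  have hta := R.ta 0 4 (by decide)
  have hra := R.ra 0 4 0 4 (by decide) (by decide) (by decide) (by decide)
  have hc : ∀ w ∈ T0, (c : L5) * w = w * c := by
    intro w hw
    have h1 := R.tr ⟨w, T0_le_CC hw⟩
    rw [e, ← map_mul, ← map_mul] at h1
    have h2 := congrArg Subtype.val (R.inj h1)
    exact h2.symm
  rcases centralizer_T0 c.2 hc with h | h
  · have h1 : c = 1 := Subtype.ext h
    rw [h1, map_one] at e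
    rw [e, one_mul, mul_one] at hta
    exact ι04_ne R (mul_left_cancel (a := α 0 4) (by rw [mul_one]; exact hta.symm))
  · have h1 : c = zC := Subtype.ext h
    rw [h1, ← rt_04] at e
    rw [← e] at hra hta
    have h2 : t * α 0 4 * t = α 0 4 := by
      rw [hra, mul_assoc, R.tt, mul_one]
    rw [h2] at hta
    have h3 : t = 1 := mul_left_cancel (a := α 0 4) (by rw [mul_one]; exact hta.symm)
    rw [h3] at e
    exact ι04_ne R e.symm

end rel

end Cfsg.Agent.OddHalf.UT5.EndModel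

end

-- merged: Cfsg.Agent.OddHalf.UT5.EndBase
section

/-!
# ODD half, groups with Sylow 2-subgroup `UT(5, 2)`: the transfer, abstract part (helper458)

`finish`: transfer `G → H / U'`, where all conjugates of `t` relevant in the T-formula lie in `U'`, with one
exception, the coset `H` itself.
-/

set_option autoImplicit false
set_option linter.dupNamespace false

namespace Cfsg.Agent.OddHalf.UT5.EndBase

open Cfsg.Agent.OddHalf.UT5.ChainBase

theorem finish {G : Type*} [Group G] [Finite G] (hG : commutator G = ⊤) (U U' H : Subgroup G)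
    (hUU' : U ≤ U') (hcomm : ∀ h ∈ H, ∀ k ∈ H, h * k * h⁻¹ * k⁻¹ ∈ U) (t : G)
    (htH : t ∈ H) (htU : t ∉ U') (tt : t * t = 1) (T : Subgroup G) (hTH : T ≤ H)
    (hT2 : IsPGroup 2 T) (hTt : ∀ x ∈ T, x * t = t * x)
    (h5 : ∀ g : G, (∀ x ∈ T, g⁻¹ * x * g ∈ H) → g⁻¹ * t * g ∈ H → g⁻¹ * t * g ∈ U' ∨ g ∈ H) :
    False := by
  classical
  have hN : (U'.subgroupOf H).Normal := by
    constructor
    intro n hn h
    rw [Subgroup.mem_subgroupOf] at hn ⊢
    have e : ((h * n * h⁻¹ : H) : G) = (h : G) * n * (h : G)⁻¹ * (n : G)⁻¹ * n := by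
      rw [Subgroup.coe_mul, Subgroup.coe_mul, Subgroup.coe_inv]; group
    rw [e]
    exact U'.mul_mem (hUU' (hcomm _ h.2 _ n.2)) hn
  let inst : CommGroup (H ⧸ U'.subgroupOf H) :=
    { (inferInstance : Group (H ⧸ U'.subgroupOf H)) with
      mul_comm := by
        intro x y
        obtain ⟨a, rfl⟩ := QuotientGroup.mk_surjective x
        obtain ⟨b, rfl⟩ := QuotientGroup.mk_surjective y
        show ((a * b : H) : H ⧸ U'.subgroupOf H) = ((b * a : H) : H ⧸ U'.subgroupOf H)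
        rw [QuotientGroup.eq, Subgroup.mem_subgroupOf]
        have e : (((a * b)⁻¹ * (b * a) : H) : G) =
            (b : G)⁻¹ * (a : G)⁻¹ * ((b : G)⁻¹)⁻¹ * ((a : G)⁻¹)⁻¹ := by
          rw [Subgroup.coe_mul, Subgroup.coe_inv, Subgroup.coe_mul, Subgroup.coe_mul]; group
        rw [e]
        exact hUU' (hcomm _ (H.inv_mem b.2) _ (H.inv_mem a.2)) }
  let φ : H →* (H ⧸ U'.subgroupOf H) := QuotientGroup.mk' (U'.subgroupOf H)
  have hφ : ∀ h : H, φ h = 1 ↔ (h : G) ∈ U' := by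
    intro h
    show ((h : H) : H ⧸ U'.subgroupOf H) = 1 ↔ _
    rw [QuotientGroup.eq_one_iff, Subgroup.mem_subgroupOf]
  have : Fintype (G ⧸ H) := Fintype.ofFinite _
  obtain ⟨f, hf, s, hs, hprod⟩ := TFormula.transfer_eq_prod H φ t tt T hT2 hTt
  have hsm : ∀ x g : G, x • (g : G ⧸ H) = g → g⁻¹ * x * g ∈ H := by
    intro x g h
    rw [MulAction.Quotient.smul_mk, smul_eq_mul, QuotientGroup.eq] at h
    have e : g⁻¹ * x * g = ((x * g)⁻¹ * g)⁻¹ := by group
    rw [e]; exact H.inv_mem h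
  have h1H : ∀ x ∈ H, x • ((1 : G) : G ⧸ H) = ((1 : G) : G ⧸ H) := by
    intro x hx
    rw [MulAction.Quotient.smul_mk, smul_eq_mul, QuotientGroup.eq, mul_one, mul_one]
    exact H.inv_mem hx
  have h1s : ((1 : G) : G ⧸ H) ∈ s := (hs _).2 ⟨h1H t htH, fun x hx => h1H x (hTH hx)⟩
  have hp : ∏ q ∈ s, f q = f ((1 : G) : G ⧸ H) := by
    apply Finset.prod_eq_single_of_mem _ h1s
    intro q hq hq1
    obtain ⟨g, rfl⟩ := QuotientGroup.mk_surjective q
    obtain ⟨h1, h2⟩ := (hs _).1 hq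
    have h3 : g⁻¹ * t * g ∈ H := hsm t g h1
    rcases h5 g (fun x hx => hsm x g (h2 x hx)) h3 with h4 | h4
    · rw [hf _ g rfl h3, hφ]; exact h4
    · exfalso; apply hq1
      rw [QuotientGroup.eq, mul_one]; exact H.inv_mem h4
  have hmem : (1 : G)⁻¹ * t * 1 ∈ H := by rw [inv_one, one_mul, mul_one]; exact htH
  have h7 := TFormula.hom_eq_one hG (MonoidHom.transfer φ) t
  rw [hprod, hp, hf _ 1 rfl hmem, hφ] at h7
  apply htU
  have e : (1 : G)⁻¹ * t * 1 = t := by rw [inv_one, one_mul, mul_one]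
  rw [← e]; exact h7

section mod

variable {G : Type*} [Group G]

/-- commutators modulo a normalised subgroup -/
theorem comm_mod {S1 S2 : Set G} {Z : Subgroup G}
    (n1 : ∀ x ∈ Subgroup.closure S1, ∀ z ∈ Z, x * z * x⁻¹ ∈ Z)
    (n2 : ∀ y ∈ Subgroup.closure S2, ∀ z ∈ Z, y * z * y⁻¹ ∈ Z)
    (hc : ∀ g ∈ S1, ∀ h ∈ S2, g * h * g⁻¹ * h⁻¹ ∈ Z) :
    ∀ x ∈ Subgroup.closure S1, ∀ y ∈ Subgroup.closure S2, x * y * x⁻¹ * y⁻¹ ∈ Z := by
  have h2 : ∀ g ∈ S1, ∀ y ∈ Subgroup.closure S2, g * y * g⁻¹ * y⁻¹ ∈ Z := by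
    intro g hg y hy
    induction hy using Subgroup.closure_induction with
    | mem h hh => exact hc g hg h hh
    | one => rw [mul_one, mul_inv_cancel, inv_one, mul_one]; exact Z.one_mem
    | mul x y hx0 hy0 hx hy =>
      have e : g * (x * y) * g⁻¹ * (x * y)⁻¹ =
          g * x * g⁻¹ * x⁻¹ * (x * (g * y * g⁻¹ * y⁻¹) * x⁻¹) := by group
      rw [e]; exact Z.mul_mem hx (n2 x hx0 _ hy)
    | inv x hx0 hx =>
      have e : g * x⁻¹ * g⁻¹ * x⁻¹⁻¹ = x⁻¹ * (g * x * g⁻¹ * x⁻¹)⁻¹ * x⁻¹⁻¹ := by group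
      rw [e]; exact n2 _ (Subgroup.inv_mem _ hx0) _ (Z.inv_mem hx)
  intro x hx y hy
  induction hx using Subgroup.closure_induction with
  | mem g hg => exact h2 g hg y hy
  | one => rw [one_mul, inv_one, mul_one, mul_inv_cancel]; exact Z.one_mem
  | mul a b ha0 hb0 ha hb =>
    have e : a * b * y * (a * b)⁻¹ * y⁻¹ = a * (b * y * b⁻¹ * y⁻¹) * a⁻¹ * (a * y * a⁻¹ * y⁻¹) := by
      group
    rw [e]; exact Z.mul_mem (n1 a ha0 _ hb) ha
  | inv a ha0 ha =>
    have e : a⁻¹ * y * a⁻¹⁻¹ * y⁻¹ = a⁻¹ * (a * y * a⁻¹ * y⁻¹)⁻¹ * a⁻¹⁻¹ := by group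
    rw [e]; exact n1 _ (Subgroup.inv_mem _ ha0) _ (Z.inv_mem ha)

/-- squares modulo a normalised subgroup -/
theorem sq_mod {S : Set G} {Z : Subgroup G}
    (n1 : ∀ x ∈ Subgroup.closure S, ∀ z ∈ Z, x * z * x⁻¹ ∈ Z)
    (hc : ∀ g ∈ S, ∀ h ∈ S, g * h * g⁻¹ * h⁻¹ ∈ Z) (hs : ∀ g ∈ S, g * g ∈ Z) :
    ∀ x ∈ Subgroup.closure S, x * x ∈ Z := by
  intro x hx
  induction hx using Subgroup.closure_induction with
  | mem g hg => exact hs g hg
  | one => rw [mul_one]; exact Z.one_mem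
  | mul a b ha0 hb0 ha hb =>
    have e : a * b * (a * b) = a * a * (a⁻¹ * b * a⁻¹⁻¹ * b⁻¹) * (b * b) := by group
    rw [e]
    exact Z.mul_mem (Z.mul_mem ha (comm_mod n1 n1 hc _ (Subgroup.inv_mem _ ha0) _ hb0)) hb
  | inv a ha0 ha =>
    have e : a⁻¹ * a⁻¹ = (a * a)⁻¹ := by group
    rw [e]; exact Z.inv_mem ha

/-- commutators in `ext N s` -/
theorem comm_ext {U N : Subgroup G} {s : G} (h1 : ∀ n ∈ N, s⁻¹ * n * s ∈ N) (h3 : s * s ∈ N)
    (nU : ∀ n ∈ N, ∀ u ∈ U, n * u * n⁻¹ ∈ U) (sU : ∀ u ∈ U, s * u * s⁻¹ ∈ U)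
    (hN : ∀ n ∈ N, ∀ m ∈ N, n * m * n⁻¹ * m⁻¹ ∈ U) (hs : ∀ n ∈ N, s * n * s⁻¹ * n⁻¹ ∈ U) :
    ∀ g ∈ ext N s h1 h3, ∀ h ∈ ext N s h1 h3, g * h * g⁻¹ * h⁻¹ ∈ U := by
  -- `n` and `s m`
  have k1 : ∀ n ∈ N, ∀ m ∈ N, n * (s * m) * n⁻¹ * (s * m)⁻¹ ∈ U := by
    intro n hn m hm
    have e : n * (s * m) * n⁻¹ * (s * m)⁻¹ =
        n * (s * (m * n⁻¹ * m⁻¹ * n⁻¹⁻¹) * s⁻¹) * n⁻¹ * (s * n * s⁻¹ * n⁻¹)⁻¹ := by group
    rw [e]
    exact U.mul_mem (nU n hn _ (sU _ (hN m hm _ (N.inv_mem hn)))) (U.inv_mem (hs n hn))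
  rintro g (hg | hg) h (hh | hh)
  · exact hN g hg h hh
  · have := k1 g hg _ hh
    rwa [mul_inv_cancel_left] at this
  · have := U.inv_mem (k1 h hh _ hg)
    rw [mul_inv_cancel_left] at this
    have e : (h * g * h⁻¹ * g⁻¹)⁻¹ = g * h * g⁻¹ * h⁻¹ := by group
    rwa [e] at this
  · set n := s⁻¹ * g with hn
    set m := s⁻¹ * h with hm
    have eg : g = s * n := by rw [hn, mul_inv_cancel_left]
    have eh : h = s * m := by rw [hm, mul_inv_cancel_left]
    have e : g * h * g⁻¹ * h⁻¹ =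
        s * (n * (s * m) * n⁻¹ * (s * m)⁻¹ * (s * m * s⁻¹ * m⁻¹)) * s⁻¹ := by
      rw [eg, eh]; group
    rw [e]
    exact sU _ (U.mul_mem (k1 n hg m hh) (hs m hh))

/-- the computation in the quotient -/
theorem comm_of_fixed {d s u n b b' m : G} (hd : d = s * u) (dd : d * d = 1)
    (hb' : b' = s⁻¹ * b * s) (hun : u * n = n * u) (hsn : s * n = n * s)
    (hm : m = b'⁻¹ * u⁻¹ * b' * u) (hms : s * m = m * s) (hmu : u * m = m * u)
    (hmb : m * b = b * m) (hy : n * b * b' * d = d * (n * b * b')) : b * b' = b' * b := by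
  have di : d⁻¹ = d := inv_eq_of_mul_eq_one_right dd
  have hA : d⁻¹ * b * d = b' * m := by
    rw [hm, hd, hb']; group
  have hdm : d⁻¹ * m * d = m := by
    have : m * d = d * m := by
      rw [hd]
      calc m * (s * u) = m * s * u := by group
        _ = s * m * u := by rw [hms]
        _ = s * (u * m) := by rw [hmu]; group
        _ = s * u * m := by group
    calc d⁻¹ * m * d = d⁻¹ * (m * d) := by group
      _ = d⁻¹ * (d * m) := by rw [this]
      _ = m := by group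
  have hdn : d⁻¹ * n * d = n := by
    have : n * d = d * n := by
      rw [hd]
      calc n * (s * u) = n * s * u := by group
        _ = s * n * u := by rw [hsn]
        _ = s * (u * n) := by rw [hun]; group
        _ = s * u * n := by group
    calc d⁻¹ * n * d = d⁻¹ * (n * d) := by group
      _ = d⁻¹ * (d * n) := by rw [this]
      _ = n := by group
  have hB : d⁻¹ * b' * d = b * m⁻¹ := by
    have h1 : d⁻¹ * (b' * m) * d = b := by
      rw [← hA]
      calc d⁻¹ * (d⁻¹ * b * d) * d = (d * d)⁻¹ * b * (d * d) := by group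
        _ = b := by rw [dd]; group
    calc d⁻¹ * b' * d = d⁻¹ * (b' * m) * d * (d⁻¹ * m * d)⁻¹ := by group
      _ = b * m⁻¹ := by rw [h1, hdm]
  have h2 : n * b * b' = n * (b' * b) := by
    calc n * b * b' = d⁻¹ * (d * (n * b * b')) := by group
      _ = d⁻¹ * (n * b * b' * d) := by rw [hy]
      _ = (d⁻¹ * n * d) * (d⁻¹ * b * d) * (d⁻¹ * b' * d) := by group
      _ = n * (b' * m) * (b * m⁻¹) := by rw [hdn, hA, hB]
      _ = n * b' * (m * b) * m⁻¹ := by group
      _ = n * b' * (b * m) * m⁻¹ := by rw [hmb]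
      _ = n * (b' * b) := by group
  have h3 : n * (b * b') = n * (b' * b) := by rw [← h2]; group
  exact mul_left_cancel h3

end mod

end Cfsg.Agent.OddHalf.UT5.EndBase

end

-- merged: Cfsg.Agent.OddHalf.UT5.EndNorm
section

/-!
# ODD half, groups with Sylow 2-subgroup `UT(5, 2)`: commutators in `U*`, the coset `s U*` (helper458)

Text: bb ODD #10902, step (7). `outer_cent`: if `d ∈ s U*` is an involution then `C_{U*}(d) ≤ NN L8`, a group
of exponent `4` (`pow4_NN8`).
-/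

set_option autoImplicit false
set_option linter.dupNamespace false

namespace Cfsg.Agent.OddHalf.UT5.EndNorm

open Cfsg.Agent.SporadicRecognition.HeldModel Cfsg.Agent.OddHalf.UT5.Model
  Cfsg.Agent.OddHalf.UT5.Core Cfsg.Agent.OddHalf.UT5.ChainBase Cfsg.Agent.OddHalf.UT5.Table
  Cfsg.Agent.OddHalf.UT5.EndModel Cfsg.Agent.OddHalf.UT5.EndBase

variable {G : Type*} [Group G] {t : G} {ι : CC →* G} {α : Fin 5 → Fin 5 → G}

def Above (i k : Fin 5) (n : List (Fin 5 × Fin 5)) : Prop :=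
  ∀ a b : Fin 5, a ≤ i → k ≤ b → (a, b) ∈ n

instance (i k : Fin 5) (n : List (Fin 5 × Fin 5)) : Decidable (Above i k n) := by
  unfold Above; infer_instance

def CommIn (l m n : List (Fin 5 × Fin 5)) : Prop :=
  ∀ p ∈ l, ∀ q ∈ m, (p.2 = q.1 → Above p.1 q.2 n) ∧ (q.2 = p.1 → Above q.1 p.2 n)

instance (l m n : List (Fin 5 × Fin 5)) : Decidable (CommIn l m n) := by
  unfold CommIn; infer_instance

theorem comm_NN (R : Rel t ι α) {l m n : List (Fin 5 × Fin 5)} (hl : Up l) (hm : Up m)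
    (hn : Up n) (hI : Ideal n) (hc : CommIn l m n) :
    ∀ x ∈ NN ι α l, ∀ y ∈ NN ι α m, x * y * x⁻¹ * y⁻¹ ∈ NN ι α n := by
  apply comm_mod
  · intro x hx z hz; exact NN_conj R hn hI hl hx z hz
  · intro x hx z hz; exact NN_conj R hn hI hm hx z hz
  · rintro g ⟨p, hp, hg⟩ h ⟨q, hq, hh⟩
    exact comm_mem R (hl p hp) (hm q hq) hg hh (hc p hp q hq).1 (hc p hp q hq).2

theorem NN_nil {y : G} (h : y ∈ NN ι α []) : y = 1 := by
  have e : gens ι α [] = ∅ := by
    ext g; constructor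
    · rintro ⟨p, hp, _⟩; exact absurd hp (List.not_mem_nil)
    · intro h; exact absurd h (Set.notMem_empty _)
  unfold NN at h
  rw [e, Subgroup.closure_empty] at h
  exact Subgroup.mem_bot.1 h

theorem sq_NN (R : Rel t ι α) {l n : List (Fin 5 × Fin 5)} (hl : Up l) (hn : Up n)
    (hI : Ideal n) (hc : CommIn l l n) : ∀ y ∈ NN ι α l, y * y ∈ NN ι α n := by
  apply sq_mod
  · intro x hx z hz; exact NN_conj R hn hI hl hx z hz
  · rintro g ⟨p, hp, hg⟩ h ⟨q, hq, hh⟩
    exact comm_mem R (hl p hp) (hl q hq) hg hh (hc p hp q hq).1 (hc p hp q hq).2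
  · rintro g ⟨p, hp, hg⟩
    rw [gen_sq R (hl p hp) hg]; exact Subgroup.one_mem _

theorem pow4_NN8 (R : Rel t ι α) {y : G} (hy : y ∈ NN ι α L8) : y ^ 4 = 1 := by
  have h1 : y * y ∈ NN ι α L3 := sq_NN R (by decide) (by decide) (by decide) (by decide) y hy
  have h2 : y * y * (y * y) ∈ NN ι α [] :=
    sq_NN R (by decide) (by decide) (by decide) (by decide) _ h1
  have h3 := NN_nil h2
  rw [← h3, show (4 : ℕ) = 2 + 2 from rfl, pow_add, pow_two]

theorem L8_le : NN ι α L8 ≤ NN ι α L10 :=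
  NN_mono fun _ hp => List.mem_cons_of_mem _ (List.mem_cons_of_mem _ hp)

theorem L8_le9 : NN ι α L8 ≤ NN ι α L9 := NN_mono fun _ hp => List.mem_cons_of_mem _ hp

theorem L7_le8 : NN ι α L7 ≤ NN ι α L8 := NN_mono fun _ hp => List.mem_cons_of_mem _ hp

theorem isW_of_mem (R : Rel t ι α) {i j : Fin 5} (hij : i < j) {w : G}
    (hw : w ∈ NN ι α [(i, j)]) : IsW ι α i j w := by
  have hU : Up [(i, j)] := by
    intro p hp
    rw [List.mem_singleton] at hp
    rw [hp]; exact hij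
  have hI : Ideal [] := fun p hp => absurd hp (List.not_mem_nil)
  obtain ⟨n, hn, v, hv, e⟩ := decomp' R hU hI hw
  rw [NN_nil hn, one_mul] at e
  rw [e]; exact hv

theorem eq_one_of_mem (R : Rel t ι α) {i j : Fin 5} (hij : i < j) {l : List (Fin 5 × Fin 5)}
    (h : Chain t (NN ι α l) (SL ι l)) (hn : (i, j) ∉ l) {w : G}
    (hw : w ∈ NN ι α [(i, j)]) (hwl : w ∈ NN ι α l) : w = 1 := by
  have xS : ι (rt i j) ∉ SL ι l := by
    rintro ⟨c, hc, e⟩
    rw [R.inj e] at hc
    exact not_pat_rt hij hn hc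
  rcases isW_of_mem R hij hw with rfl | rfl | rfl | rfl
  · rfl
  · exact absurd hwl (h.x_notMem (R.tr _).symm xS)
  · exact absurd hwl (h.a_notMem (R.tr _).symm xS (R.ta i j hij))
  · exact absurd hwl (h.ax_notMem (R.tr _).symm xS R.tt (R.ta i j hij))

section s

variable {s : G} (sP : ∀ c, s⁻¹ * ι c * s = ι (tauC c))
  (hs : ∀ i j : Fin 5, i < j → s⁻¹ * α i j * s = α j.rev i.rev)

include sP in
theorem s_rt (i j : Fin 5) : s⁻¹ * ι (rt i j) * s = ι (rt j.rev i.rev) := by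
  rw [sP, tauC_rt]

include sP in
theorem s_rt' (i j : Fin 5) : s * ι (rt i j) * s⁻¹ = ι (rt j.rev i.rev) := by
  have h := s_rt sP j.rev i.rev
  rw [Fin.rev_rev, Fin.rev_rev] at h
  rw [← h]; group

include hs in
theorem s_al' {i j : Fin 5} (h : i < j) : s * α i j * s⁻¹ = α j.rev i.rev := by
  have h := hs j.rev i.rev (Fin.rev_lt_rev.2 h)
  rw [Fin.rev_rev, Fin.rev_rev] at h
  rw [← h]; group

include sP hs in
theorem s_conj {l m : List (Fin 5 × Fin 5)} (hU : Up l)
    (h : ∀ p ∈ l, (p.2.rev, p.1.rev) ∈ m) : ∀ n ∈ NN ι α l, s⁻¹ * n * s ∈ NN ι α m := by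
  intro n hn
  induction hn using Subgroup.closure_induction with
  | mem g hg =>
    obtain ⟨⟨i, j⟩, hp, hg | hg⟩ := hg
    · rw [hg]
      show s⁻¹ * ι (rt i j) * s ∈ _
      rw [s_rt sP]; exact gen_mem (h _ hp) (Or.inl rfl)
    · rw [hg]
      show s⁻¹ * α i j * s ∈ _
      rw [hs i j (hU _ hp)]; exact gen_mem (h _ hp) (Or.inr rfl)
  | one => rw [mul_one, inv_mul_cancel]; exact Subgroup.one_mem _
  | mul x y _ _ hx hy =>
    have e : s⁻¹ * (x * y) * s = s⁻¹ * x * s * (s⁻¹ * y * s) := by group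
    rw [e]; exact Subgroup.mul_mem _ hx hy
  | inv x _ hx =>
    have e : s⁻¹ * x⁻¹ * s = (s⁻¹ * x * s)⁻¹ := by group
    rw [e]; exact Subgroup.inv_mem _ hx

include sP hs in
theorem s_conj' {l m : List (Fin 5 × Fin 5)} (hU : Up l)
    (h : ∀ p ∈ l, (p.2.rev, p.1.rev) ∈ m) : ∀ n ∈ NN ι α l, s * n * s⁻¹ ∈ NN ι α m := by
  intro n hn
  induction hn using Subgroup.closure_induction with
  | mem g hg =>
    obtain ⟨⟨i, j⟩, hp, hg | hg⟩ := hg
    · rw [hg]
      show s * ι (rt i j) * s⁻¹ ∈ _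
      rw [s_rt' sP]; exact gen_mem (h _ hp) (Or.inl rfl)
    · rw [hg]
      show s * α i j * s⁻¹ ∈ _
      rw [s_al' hs (hU _ hp)]; exact gen_mem (h _ hp) (Or.inr rfl)
  | one => rw [mul_one, mul_inv_cancel]; exact Subgroup.one_mem _
  | mul x y _ _ hx hy =>
    have e : s * (x * y) * s⁻¹ = s * x * s⁻¹ * (s * y * s⁻¹) := by group
    rw [e]; exact Subgroup.mul_mem _ hx hy
  | inv x _ hx =>
    have e : s * x⁻¹ * s⁻¹ = (s * x * s⁻¹)⁻¹ := by group
    rw [e]; exact Subgroup.inv_mem _ hx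

include sP hs in
/-- `s` centralises `NN L8` modulo `NN L7` -/
theorem s_mod (R : Rel t ι α) {n : G} (hn : n ∈ NN ι α L8) : s * n * s⁻¹ * n⁻¹ ∈ NN ι α L7 := by
  obtain ⟨r, hr, w, hw, e⟩ := decomp' R (by decide) (by decide) hn
  have h1 : s * w * s⁻¹ = w := by
    have e1 := s_rt' sP 1 3
    have e2 := s_al' (s := s) hs (show (1 : Fin 5) < 3 by decide)
    have d1 : (3 : Fin 5).rev = 1 := by decide
    have d2 : (1 : Fin 5).rev = 3 := by decide
    rw [d1, d2] at e1 e2
    rcases hw with rfl | rfl | rfl | rfl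
    · group
    · exact e1
    · exact e2
    · calc s * (α 1 3 * ι (rt 1 3)) * s⁻¹ = s * α 1 3 * s⁻¹ * (s * ι (rt 1 3) * s⁻¹) := by group
        _ = _ := by rw [e1, e2]
  have e2 : s * n * s⁻¹ * n⁻¹ = s * r * s⁻¹ * r⁻¹ := by
    calc s * n * s⁻¹ * n⁻¹ = s * r * s⁻¹ * (s * w * s⁻¹) * w⁻¹ * r⁻¹ := by rw [e]; group
      _ = _ := by rw [h1]; group
  rw [e2]
  exact Subgroup.mul_mem _ (s_conj' sP hs (by decide) (by decide) r hr) (Subgroup.inv_mem _ hr)

/-- `α13` times an element of `closure D'` is not in `NN L7` -/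
theorem a13_notMem (R : Rel t ι α) {d : G} (hd : d ∈ Subgroup.closure (D' ι α 1 3)) :
    α 1 3 * d ∉ NN ι α L7 := by
  have h13 : (1 : Fin 5) < 3 := by decide
  have hx : IsGen ι α 1 3 (ι (rt 1 3)) := Or.inl rfl
  have xx := ι_sq (ι := ι) 1 3
  have xi : (ι (rt 1 3))⁻¹ = ι (rt 1 3) := inv_eq_of_mul_eq_one_right xx
  have nx := gen_conj' R (l := L7) (by decide) (by decide) h13 hx
  have h1 : ∀ n ∈ NN ι α L7, (ι (rt 1 3))⁻¹ * n * ι (rt 1 3) ∈ NN ι α L7 := by
    intro n hn; rw [xi]; exact nx n hn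
  have h3 : ι (rt 1 3) * ι (rt 1 3) ∈ NN ι α L7 := by rw [xx]; exact Subgroup.one_mem _
  have hle : Subgroup.closure (D' ι α 1 3) ≤ ext (NN ι α L7) (ι (rt 1 3)) h1 h3 := by
    rw [Subgroup.closure_le]
    rintro g (rfl | ⟨p, q, hp, hq, hpq, hg⟩)
    · exact self_mem_ext
    · have key : ∀ p q : Fin 5, p ≤ 1 → 3 ≤ q → (p ≠ 1 ∨ q ≠ 3) → (p, q) ∈ L7 := by decide
      exact Or.inl (gen_mem (key p q hp hq hpq) hg)
  have xS : ι (rt 1 3) ∉ SL ι L7 := by
    rintro ⟨c, hc, e⟩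
    rw [R.inj e] at hc
    exact not_pat_rt h13 (by decide) hc
  have hch := chain7 R
  intro h
  rcases hle hd with h4 | h4
  · apply hch.a_notMem (R.tr _).symm xS (R.ta 1 3 h13)
    have e : α 1 3 = α 1 3 * d * d⁻¹ := by group
    rw [e]; exact Subgroup.mul_mem _ h (Subgroup.inv_mem _ h4)
  · apply hch.ax_notMem (R.tr _).symm xS R.tt (R.ta 1 3 h13)
    have e : α 1 3 * ι (rt 1 3) = α 1 3 * d * ((ι (rt 1 3))⁻¹ * d)⁻¹ := by group
    rw [e]; exact Subgroup.mul_mem _ h (Subgroup.inv_mem _ h4)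

end s

theorem q_comm {H Z : Subgroup G} [(Z.subgroupOf H).Normal] (a b : H)
    (h : (a : G) * b * (a : G)⁻¹ * (b : G)⁻¹ ∈ Z) :
    ((a : H) : H ⧸ Z.subgroupOf H) * ((b : H) : H ⧸ Z.subgroupOf H) =
      ((b : H) : H ⧸ Z.subgroupOf H) * ((a : H) : H ⧸ Z.subgroupOf H) := by
  have h1 : ((a * b * a⁻¹ * b⁻¹ : H) : H ⧸ Z.subgroupOf H) = 1 := by
    rw [QuotientGroup.eq_one_iff, Subgroup.mem_subgroupOf]; exact h
  have h2 : ((a : H) : H ⧸ Z.subgroupOf H) * ((b : H) : H ⧸ Z.subgroupOf H) *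
      ((a : H) : H ⧸ Z.subgroupOf H)⁻¹ * ((b : H) : H ⧸ Z.subgroupOf H)⁻¹ = 1 := h1
  rw [mul_inv_eq_one, mul_inv_eq_iff_eq_mul] at h2
  exact h2

/-- `C_{U*}(d) ≤ NN L8` for an involution `d ∈ s U*` -/
theorem outer_cent (R : Rel t ι α) {s u d y : G} (st : s * t = t * s)
    (sP : ∀ c, s⁻¹ * ι c * s = ι (tauC c))
    (hs : ∀ i j : Fin 5, i < j → s⁻¹ * α i j * s = α j.rev i.rev)
    (H : Subgroup G) (hsH : s ∈ H) (hUH : NN ι α L10 ≤ H)
    (hHR : ∀ h ∈ H, ∀ r ∈ NN ι α L7, h * r * h⁻¹ ∈ NN ι α L7)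
    (hu : u ∈ NN ι α L10) (hd : d = s * u) (dd : d * d = 1) (hy : y ∈ NN ι α L10)
    (hyd : y * d = d * y) : y ∈ NN ι α L8 := by
  obtain ⟨n9, hn9, e, he, ey⟩ := decomp' R (by decide) (by decide) hy
  obtain ⟨n, hn, b, hb, en9⟩ := decomp' R (by decide) (by decide) hn9
  have heN : e ∈ NN ι α [(2, 3)] := he.mem (by decide)
  have hbN : b ∈ NN ι α [(1, 2)] := hb.mem (by decide)
  set b' := s⁻¹ * b * s with hb'
  have hb'N : b' ∈ NN ι α [(2, 3)] := s_conj sP hs (by decide) (by decide) b hbN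
  have he'N : s⁻¹ * e * s ∈ NN ι α [(1, 2)] := s_conj sP hs (by decide) (by decide) e heN
  have hn' : s⁻¹ * n * s ∈ NN ι α L8 := s_conj sP hs (by decide) (by decide) n hn
  have hu' := (NN ι α L10).inv_mem hu
  have h12 : NN ι α [(1, 2)] ≤ NN ι α L9 := NN_mono (by decide)
  have h23 : NN ι α [(2, 3)] ≤ NN ι α L10 := NN_mono (by decide)
  have h12' : NN ι α [(1, 2)] ≤ NN ι α L10 := NN_mono (by decide)
  -- `e = b'`
  have hy1 : y = u⁻¹ * (s⁻¹ * y * s) * u := by
    calc y = d⁻¹ * (d * y) := by group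
      _ = d⁻¹ * (y * d) := by rw [hyd]
      _ = _ := by rw [hd]; group
  have hk1 : y * b'⁻¹ ∈ NN ι α L9 := by
    have e1 : y * b'⁻¹ = u⁻¹ * (s⁻¹ * n * s * (b' * (s⁻¹ * e * s) * b'⁻¹)) * u *
        (u⁻¹ * b' * u⁻¹⁻¹ * b'⁻¹) := by
      calc y * b'⁻¹ = u⁻¹ * (s⁻¹ * y * s) * u * b'⁻¹ := by rw [← hy1]
        _ = _ := by rw [ey, en9, hb']; group
    rw [e1]
    refine Subgroup.mul_mem _ ?_ ?_
    · apply NN_conj' R (by decide) (by decide) (by decide) hu
      exact Subgroup.mul_mem _ (L8_le9 hn')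
        (NN_conj R (by decide) (by decide) (by decide) hb'N _ (h12 he'N))
    · exact L8_le9 (comm_NN R (l := L10) (m := [(2, 3)]) (by decide) (by decide) (by decide)
        (by decide) (by decide) _ hu' _ hb'N)
  have hk2 : e * b'⁻¹ ∈ NN ι α L9 := by
    have e1 : e * b'⁻¹ = n9⁻¹ * (y * b'⁻¹) := by rw [ey]; group
    rw [e1]; exact Subgroup.mul_mem _ (Subgroup.inv_mem _ hn9) hk1
  have hk3 : e * b'⁻¹ = 1 := eq_one_of_mem R (by decide) (chain9 R) (by decide)
    (Subgroup.mul_mem _ heN (Subgroup.inv_mem _ hb'N)) hk2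
  have heb : e = b' := by rwa [mul_inv_eq_one] at hk3
  rw [heb, en9] at ey
  have hyd' : n * b * b' * d = d * (n * b * b') := by rw [← ey]; exact hyd
  -- the quotient
  have hbH : b ∈ H := hUH (h12' hbN)
  have hb'H : b' ∈ H := hUH (h23 hb'N)
  have hnH : n ∈ H := hUH (L8_le hn)
  have huH : u ∈ H := hUH hu
  have hdH : d ∈ H := by rw [hd]; exact H.mul_mem hsH huH
  have hmN : b'⁻¹ * u⁻¹ * b' * u ∈ NN ι α L8 := by
    have := comm_NN R (l := [(2, 3)]) (m := L10) (n := L8) (by decide) (by decide) (by decide)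
      (by decide) (by decide) _ (Subgroup.inv_mem _ hb'N) _ hu'
    rwa [inv_inv, inv_inv] at this
  have hmH : b'⁻¹ * u⁻¹ * b' * u ∈ H := hUH (L8_le hmN)
  have hNorm : ((NN ι α L7).subgroupOf H).Normal := by
    constructor
    intro r hr h
    rw [Subgroup.mem_subgroupOf] at hr ⊢
    exact hHR h h.2 _ hr
  have h87 : ∀ x ∈ NN ι α L10, ∀ y ∈ NN ι α L8, x * y * x⁻¹ * y⁻¹ ∈ NN ι α L7 :=
    comm_NN R (by decide) (by decide) (by decide) (by decide) (by decide)
  have h78 : ∀ x ∈ NN ι α L8, ∀ y ∈ NN ι α L10, x * y * x⁻¹ * y⁻¹ ∈ NN ι α L7 :=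
    comm_NN R (by decide) (by decide) (by decide) (by decide) (by decide)
  have hq := comm_of_fixed (G := H ⧸ (NN ι α L7).subgroupOf H)
    (d := ((⟨d, hdH⟩ : H) : H ⧸ (NN ι α L7).subgroupOf H))
    (s := ((⟨s, hsH⟩ : H) : H ⧸ (NN ι α L7).subgroupOf H))
    (u := ((⟨u, huH⟩ : H) : H ⧸ (NN ι α L7).subgroupOf H))
    (n := ((⟨n, hnH⟩ : H) : H ⧸ (NN ι α L7).subgroupOf H))
    (b := ((⟨b, hbH⟩ : H) : H ⧸ (NN ι α L7).subgroupOf H))
    (b' := ((⟨b', hb'H⟩ : H) : H ⧸ (NN ι α L7).subgroupOf H))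
    (m := ((⟨b'⁻¹ * u⁻¹ * b' * u, hmH⟩ : H) : H ⧸ (NN ι α L7).subgroupOf H))
    (congrArg (QuotientGroup.mk) (Subtype.ext hd)) (congrArg (QuotientGroup.mk) (Subtype.ext dd))
    (congrArg (QuotientGroup.mk) (Subtype.ext hb'))
    (q_comm _ _ (h87 _ hu _ hn)) (q_comm _ _ (s_mod sP hs R hn)) rfl
    (q_comm _ _ (s_mod sP hs R hmN)) (q_comm _ _ (h87 _ hu _ hmN))
    (q_comm _ _ (h78 _ hmN _ (h12' hbN)))
    (congrArg (QuotientGroup.mk) (Subtype.ext hyd'))
  have hbb : b * b' * b⁻¹ * b'⁻¹ ∈ NN ι α L7 := by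
    have h1 : (((⟨b, hbH⟩ : H) * ⟨b', hb'H⟩ * (⟨b, hbH⟩ : H)⁻¹ * (⟨b', hb'H⟩ : H)⁻¹ : H) :
        H ⧸ (NN ι α L7).subgroupOf H) = 1 := by
      show ((⟨b, hbH⟩ : H) : H ⧸ (NN ι α L7).subgroupOf H) *
        ((⟨b', hb'H⟩ : H) : H ⧸ (NN ι α L7).subgroupOf H) *
        ((⟨b, hbH⟩ : H) : H ⧸ (NN ι α L7).subgroupOf H)⁻¹ *
        ((⟨b', hb'H⟩ : H) : H ⧸ (NN ι α L7).subgroupOf H)⁻¹ = 1
      rw [mul_inv_eq_one, mul_inv_eq_iff_eq_mul]
      exact hq
    rw [QuotientGroup.eq_one_iff, Subgroup.mem_subgroupOf] at h1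
    exact h1
  have d1 : (2 : Fin 5).rev = 2 := by decide
  have d2 : (1 : Fin 5).rev = 3 := by decide
  have sX : s⁻¹ * ι (rt 1 2) * s = ι (rt 2 3) := by
    have := s_rt sP 1 2
    rwa [d1, d2] at this
  have sA : s⁻¹ * α 1 2 * s = α 2 3 := by
    have := hs 1 2 (by decide)
    rwa [d1, d2] at this
  have hA : α 1 2 * α 2 3 * (α 1 2)⁻¹ * (α 2 3)⁻¹ ∉ NN ι α L7 := by
    obtain ⟨d', hd', e1⟩ := R.a123
    rw [e1]; exact a13_notMem R hd'
  rcases hb with h | h | h | h
  · have h' : b' = 1 := by rw [hb', h]; group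
    rw [ey, h, h', mul_one, mul_one]; exact hn
  · exfalso
    rw [h] at hb'
    rw [hb', h, sX] at hbb
    have e1 : ι (rt 1 2) * ι (rt 2 3) * (ι (rt 1 2))⁻¹ * (ι (rt 2 3))⁻¹ = ι (rt 1 3) := by
      rw [← map_mul, ← map_inv, ← map_mul, ← map_inv, ← map_mul,
        rt_comm_adj 1 2 3 (by decide) (by decide)]
    rw [e1] at hbb
    refine (chain7 R).x_notMem (R.tr _).symm ?_ hbb
    rintro ⟨c, hc, e⟩
    rw [R.inj e] at hc
    exact not_pat_rt (by decide) (by decide) hc
  · exfalso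
    rw [h] at hb'
    rw [hb', h, sA] at hbb
    exact hA hbb
  · exfalso
    have tai : ∀ i j : Fin 5, i < j → t * α i j * t⁻¹ = α i j * ι (rt i j) := by
      intro i j hij
      rw [tinv R]; exact R.ta i j hij
    have e1 : b = t * α 1 2 * t⁻¹ := by rw [tai 1 2 (by decide), h]
    have e2 : b' = t * α 2 3 * t⁻¹ := by
      rw [hb', e1]
      calc s⁻¹ * (t * α 1 2 * t⁻¹) * s = (t⁻¹ * s)⁻¹ * α 1 2 * (t⁻¹ * s) := by group
        _ = (s * t⁻¹)⁻¹ * α 1 2 * (s * t⁻¹) := by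
          rw [tinv R, st]
        _ = t * (s⁻¹ * α 1 2 * s) * t⁻¹ := by group
        _ = _ := by rw [sA]
    apply hA
    have e3 : α 1 2 * α 2 3 * (α 1 2)⁻¹ * (α 2 3)⁻¹ = t * (b * b' * b⁻¹ * b'⁻¹) * t := by
      calc α 1 2 * α 2 3 * (α 1 2)⁻¹ * (α 2 3)⁻¹
          = t⁻¹ * (t * α 1 2 * t⁻¹ * (t * α 2 3 * t⁻¹) * (t * α 1 2 * t⁻¹)⁻¹ *
            (t * α 2 3 * t⁻¹)⁻¹) * t := by group
        _ = _ := by rw [← e1, ← e2, tinv R]
    rw [e3]
    exact (chain7 R).tN _ hbb

end Cfsg.Agent.OddHalf.UT5.EndNorm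

end

-- merged: Cfsg.Agent.OddHalf.UT5.End
section

/-!
# ODD half, groups with Sylow 2-subgroup `UT(5, 2)`: the end (helper458)

Text: bb ODD #10902, step (7). The commutator table `Rel` contradicts the perfectness of `G` (transfer to
`S* / U*`): `clean` (`C(t) ∩ C(z) = ⟨t⟩ × C_K(z)`) and `outer` (there is `s` with `s⁻¹ ι c s = ι (tauC c)`).
-/

set_option autoImplicit false
set_option linter.dupNamespace false

namespace Cfsg.Agent.OddHalf.UT5.End

open Cfsg.Agent.SporadicRecognition.HeldModel Cfsg.Agent.OddHalf.UT5.Model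
  Cfsg.Agent.OddHalf.UT5.Core Cfsg.Agent.OddHalf.UT5.ChainBase Cfsg.Agent.OddHalf.UT5.Table
  Cfsg.Agent.OddHalf.UT5.EndModel Cfsg.Agent.OddHalf.UT5.EndBase Cfsg.Agent.OddHalf.UT5.EndNorm

variable {G : Type*} [Group G] {t : G} {ι : CC →* G} {α : Fin 5 → Fin 5 → G}

theorem t_notMem_U (R : Rel t ι α) : t ∉ NN ι α L10 := by
  intro h
  obtain ⟨c, -, e⟩ := (chain10 R).cen t h rfl
  exact t_notMem R c e.symm

theorem cen_U (R : Rel t ι α) {y : G} (hy : y ∈ NN ι α L10) (h : y * t = t * y) :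
    ∃ c : CC, (c : L5) ∈ T0 ∧ y = ι c := by
  obtain ⟨c, hc, e⟩ := mem_SL10.1 ((chain10 R).cen y hy h)
  exact ⟨c, hc, e.symm⟩

theorem tU (R : Rel t ι α) : ∀ n ∈ NN ι α L10, t⁻¹ * n * t ∈ NN ι α L10 := by
  intro n hn
  rw [tinv R]; exact (chain10 R).tN n hn

theorem tU' (R : Rel t ι α) : ∀ n ∈ NN ι α L10, t * n * t⁻¹ ∈ NN ι α L10 := by
  intro n hn
  rw [tinv R]; exact (chain10 R).tN n hn

theorem ttU (R : Rel t ι α) : t * t ∈ NN ι α L10 := by
  rw [R.tt]; exact Subgroup.one_mem _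

/-- `U* ⟨t⟩` -/
def H0 (R : Rel t ι α) : Subgroup G := ext (NN ι α L10) t (tU R) (ttU R)

theorem mem_H0 (R : Rel t ι α) {g : G} : g ∈ H0 R ↔ g ∈ NN ι α L10 ∨ t⁻¹ * g ∈ NN ι α L10 :=
  Iff.rfl

theorem t_mem_H0 (R : Rel t ι α) : t ∈ H0 R := self_mem_ext

theorem le_H0 (R : Rel t ι α) : NN ι α L10 ≤ H0 R := le_ext

theorem cen_H0 (R : Rel t ι α) {x : G} (hx : x ∈ H0 R) (h : x * t = t * x) :
    ∃ c : CC, (c : L5) ∈ T0 ∧ (x = ι c ∨ x = t * ι c) := by
  rcases hx with hx | hx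
  · obtain ⟨c, hc, e⟩ := cen_U R hx h
    exact ⟨c, hc, Or.inl e⟩
  · obtain ⟨c, hc, e⟩ := cen_U R hx (by
      calc t⁻¹ * x * t = t⁻¹ * (x * t) := by group
        _ = t⁻¹ * (t * x) := by rw [h]
        _ = t * (t⁻¹ * x) := by group)
    exact ⟨c, hc, Or.inr (by rw [← e]; group)⟩

theorem comm_H0 (R : Rel t ι α) : ∀ g ∈ H0 R, ∀ h ∈ H0 R, g * h * g⁻¹ * h⁻¹ ∈ NN ι α L10 :=
  comm_ext (tU R) (ttU R)
    (fun _ hn _ hu => Subgroup.mul_mem _ (Subgroup.mul_mem _ hn hu) (Subgroup.inv_mem _ hn))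
    (tU' R)
    (fun _ hn _ hm => Subgroup.mul_mem _ (Subgroup.mul_mem _ (Subgroup.mul_mem _ hn hm)
      (Subgroup.inv_mem _ hn)) (Subgroup.inv_mem _ hm))
    (fun n hn => Subgroup.mul_mem _ (tU' R n hn) (Subgroup.inv_mem _ hn))

/-- squares of `t^b ι c` -/
theorem sq_tι (R : Rel t ι α) (c : CC) : t * ι c * (t * ι c) = ι (c * c) := by
  have h := R.tr c
  calc t * ι c * (t * ι c) = t * (ι c * t) * ι c := by group
    _ = t * (t * ι c) * ι c := by rw [h]
    _ = (t * t) * (ι c * ι c) := by group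
    _ = ι (c * c) := by rw [R.tt, one_mul, map_mul]

theorem pow4_form (R : Rel t ι α) {c : CC} (hc : (c : L5) ∈ T0) {x : G}
    (h : x = ι c ∨ x = t * ι c) : x * x * (x * x) = 1 ∨ x * x * (x * x) = ι zC := by
  have e : x * x = ι (c * c) := by
    rcases h with h | h
    · rw [h, map_mul]
    · rw [h]; exact sq_tι R c
  have e2 : x * x * (x * x) = ι (c ^ 4) := by
    rw [e, ← map_mul, show (4 : ℕ) = 2 + 2 from rfl, pow_add, pow_two]
  rw [e2]
  rcases pow4C hc with h4 | h4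
  · left; rw [h4, map_one]
  · right; rw [h4]

/-- `g` commutes with `z` -/
theorem z_fix (R : Rel t ι α) {g : G} {c : CC} (hc : (c : L5) ∈ T0)
    (h : g⁻¹ * ι g0 * g = ι c ∨ g⁻¹ * ι g0 * g = t * ι c) : g * ι zC = ι zC * g := by
  set x := g⁻¹ * ι g0 * g with hx
  have e : x * x * (x * x) = g⁻¹ * ι zC * g := by
    have e1 : ι zC = ι g0 * ι g0 * (ι g0 * ι g0) := by
      rw [← g0_pow, show (4 : ℕ) = 2 + 2 from rfl, pow_add, pow_two, map_mul, map_mul]
    rw [e1, hx]; group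
  rcases pow4_form R hc h with h4 | h4
  · exfalso
    rw [e] at h4
    have h5 : ι zC = 1 := by
      calc ι zC = g * (g⁻¹ * ι zC * g) * g⁻¹ := by group
        _ = 1 := by rw [h4]; group
    rw [← rt_04] at h5
    exact ι04_ne R h5
  · rw [e] at h4
    calc g * ι zC = g * (g⁻¹ * ι zC * g) := by rw [h4]
      _ = ι zC * g := by group

theorem mem_of_norm {c : CC} (h : ∀ w : CC, (w : L5) ∈ T0 → ((c⁻¹ * w * c : CC) : L5) ∈ T0) :
    (c : L5) ∈ T0 :=
  norm_T0 c.2 fun w hw => h ⟨w, T0_le_CC hw⟩ hw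

/-- passing from `g` to `g u ∈ C(t)` -/
theorem to_cent (R : Rel t ι α) {H : Subgroup G} (hUH : NN ι α L10 ≤ H) {g : G}
    (hd : t⁻¹ * (g⁻¹ * t * g) ∈ NN ι α L10) (hT : ∀ x ∈ H, x * t = t * x → g⁻¹ * x * g ∈ H) :
    ∃ u ∈ NN ι α L10, g * u * t = t * (g * u) ∧ ∀ x ∈ H, x * t = t * x →
      (g * u)⁻¹ * x * (g * u) ∈ H ∧
        (g * u)⁻¹ * x * (g * u) * t = t * ((g * u)⁻¹ * x * (g * u)) := by
  set y := t⁻¹ * (g⁻¹ * t * g) with hy
  have e1 : t * y = g⁻¹ * t * g := by rw [hy]; group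
  have e2 : t * y * (t * y) = 1 := by
    rw [e1]
    calc g⁻¹ * t * g * (g⁻¹ * t * g) = g⁻¹ * (t * t) * g := by group
      _ = 1 := by rw [R.tt]; group
  obtain ⟨u, hu, e3⟩ := (chain10 R).cj y hd e2
  have e4 : g * u * t = t * (g * u) := by
    calc g * u * t = g * (u * t * u⁻¹) * u := by group
      _ = g * (g⁻¹ * t * g) * u := by rw [← e3, e1]
      _ = t * (g * u) := by group
  refine ⟨u, hu, e4, fun x hx hxt => ⟨?_, ?_⟩⟩
  · have e5 : (g * u)⁻¹ * x * (g * u) = u⁻¹ * (g⁻¹ * x * g) * u := by group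
    rw [e5]
    exact H.mul_mem (H.mul_mem (H.inv_mem (hUH hu)) (hT x hx hxt)) (hUH hu)
  · set c := g * u with hc
    have e6 : c⁻¹ * t = t * c⁻¹ := by
      calc c⁻¹ * t = c⁻¹ * (t * c) * c⁻¹ := by group
        _ = c⁻¹ * (c * t) * c⁻¹ := by rw [e4]
        _ = t * c⁻¹ := by group
    calc c⁻¹ * x * c * t = c⁻¹ * x * (c * t) := by group
      _ = c⁻¹ * x * (t * c) := by rw [e4]
      _ = c⁻¹ * (x * t) * c := by group
      _ = c⁻¹ * (t * x) * c := by rw [hxt]
      _ = (c⁻¹ * t) * x * c := by group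
      _ = (t * c⁻¹) * x * c := by rw [e6]
      _ = _ := by group

/-- **the clean case** -/
theorem clean [Finite G] (hG : commutator G = ⊤) {z : G} (R : Rel t ι α)
    (hN : ∀ g, g * t = t * g → g * z = z * g → ∃ c, g = ι c ∨ g = t * ι c) (hz : z = ι zC) :
    False := by
  set H := H0 R with hH
  set T := H ⊓ Subgroup.centralizer ({t} : Set G) with hT
  have memT : ∀ x, x ∈ T ↔ x ∈ H ∧ x * t = t * x := by
    intro x
    rw [hT, Subgroup.mem_inf, Subgroup.mem_centralizer_singleton_iff]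
  refine finish hG (NN ι α L10) (NN ι α L10) H le_rfl (comm_H0 R) t (t_mem_H0 R)
    (t_notMem_U R) R.tt T inf_le_left ?_ (fun x hx => ((memT x).1 hx).2) ?_
  · -- `T` is a 2-group
    rintro ⟨x, hx⟩
    obtain ⟨h1, h2⟩ := (memT x).1 hx
    obtain ⟨c, hc, h3⟩ := cen_H0 R h1 h2
    refine ⟨3, Subtype.ext ?_⟩
    show x ^ 2 ^ 3 = 1
    have e : x ^ 2 ^ 3 = x * x * (x * x) * (x * x * (x * x)) := by
      rw [show (2 ^ 3 : ℕ) = 4 + 4 from rfl, pow_add, show (4 : ℕ) = 2 + 2 from rfl, pow_add,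
        pow_two]
    rw [e]
    rcases pow4_form R hc h3 with h4 | h4
    · rw [h4, one_mul]
    · rw [h4, ← map_mul, zC_sq, map_one]
  · intro g hgT hd
    rcases hd with hd | hd
    · exact Or.inl hd
    right
    obtain ⟨u, hu, hct, hcT⟩ := to_cent R (le_H0 R) hd
      (fun x hx hxt => hgT x ((memT x).2 ⟨hx, hxt⟩))
    set c := g * u with hc
    have hg : g = c * u⁻¹ := by rw [hc]; group
    suffices h : c ∈ H by rw [hg]; exact H.mul_mem h (H.inv_mem (le_H0 R hu))
    have hιH : ∀ w : CC, (w : L5) ∈ T0 → ι w ∈ H := fun w hw => le_H0 R (ιT0_mem hw)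
    obtain ⟨h1, h2⟩ := hcT (ι g0) (hιH g0 g0_mem) (R.tr g0)
    obtain ⟨w0, hw0, h3⟩ := cen_H0 R h1 h2
    have h4 := z_fix R hw0 h3
    rw [← hz] at h4
    obtain ⟨c', hc'⟩ := hN c hct h4
    have hc'0 : (c' : L5) ∈ T0 := by
      apply mem_of_norm
      intro w hw
      obtain ⟨h5, h6⟩ := hcT (ι w) (hιH w hw) (R.tr w)
      obtain ⟨w1, hw1, h7⟩ := cen_H0 R h5 h6
      have e : c⁻¹ * ι w * c = ι (c'⁻¹ * w * c') := by
        rcases hc' with h | h
        · rw [h, map_mul, map_mul, map_inv]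
        · rw [h, map_mul, map_mul, map_inv]
          have := R.tr w
          calc (t * ι c')⁻¹ * ι w * (t * ι c') = (ι c')⁻¹ * t⁻¹ * (ι w * t) * ι c' := by group
            _ = (ι c')⁻¹ * t⁻¹ * (t * ι w) * ι c' := by rw [this]
            _ = _ := by group
      rw [e] at h7
      rcases h7 with h7 | h7
      · rw [R.inj h7]; exact hw1
      · exfalso
        apply t_notMem R (c'⁻¹ * w * c' * w1⁻¹)
        rw [map_mul, h7, map_inv]; group
    rcases hc' with h | h
    · rw [h]; exact hιH c' hc'0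
    · rw [h]; exact H.mul_mem (t_mem_H0 R) (hιH c' hc'0)

/-! ### The outer case -/

section outer

variable {s : G} (R : Rel t ι α) (st : s * t = t * s) (sP : ∀ c, s⁻¹ * ι c * s = ι (tauC c))
  (hs : ∀ i j : Fin 5, i < j → s⁻¹ * α i j * s = α j.rev i.rev)

include R sP in
theorem s_notMem (c : CC) : s ≠ ι c ∧ s ≠ t * ι c := by
  constructor
  · intro e
    apply tau_not_inner c
    intro x
    apply R.inj
    rw [← sP x, e, map_mul, map_mul, map_inv]
  · intro e
    apply tau_not_inner c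
    intro x
    apply R.inj
    have h := R.tr x
    rw [← sP x, e, map_mul, map_mul, map_inv]
    calc (t * ι c)⁻¹ * ι x * (t * ι c) = (ι c)⁻¹ * t⁻¹ * (ι x * t) * ι c := by group
      _ = (ι c)⁻¹ * t⁻¹ * (t * ι x) * ι c := by rw [h]
      _ = _ := by group

include sP hs in
theorem sU : ∀ n ∈ NN ι α L10, s⁻¹ * n * s ∈ NN ι α L10 :=
  s_conj sP hs (by decide) (by decide)

include sP hs in
theorem sU' : ∀ n ∈ NN ι α L10, s * n * s⁻¹ ∈ NN ι α L10 :=
  s_conj' sP hs (by decide) (by decide)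

include st sP hs in
theorem sH0 : ∀ n ∈ H0 R, s⁻¹ * n * s ∈ H0 R := by
  rintro n (hn | hn)
  · exact Or.inl (sU sP hs n hn)
  · refine Or.inr ?_
    have e : t⁻¹ * (s⁻¹ * n * s) = s⁻¹ * (t⁻¹ * n) * s := by
      calc t⁻¹ * (s⁻¹ * n * s) = (s * t)⁻¹ * n * s := by group
        _ = (t * s)⁻¹ * n * s := by rw [st]
        _ = _ := by group
    rw [e]; exact sU sP hs _ hn

include R in
theorem nU : ∀ n ∈ H0 R, ∀ u ∈ NN ι α L10, n * u * n⁻¹ ∈ NN ι α L10 := by
  rintro n (hn | hn) u hu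
  · exact Subgroup.mul_mem _ (Subgroup.mul_mem _ hn hu) (Subgroup.inv_mem _ hn)
  · have e : n * u * n⁻¹ = t * (t⁻¹ * n * u * (t⁻¹ * n)⁻¹) * t⁻¹ := by group
    rw [e]
    exact tU' R _ (Subgroup.mul_mem _ (Subgroup.mul_mem _ hn hu) (Subgroup.inv_mem _ hn))

include st sP hs in
theorem s_comm : ∀ n ∈ H0 R, s * n * s⁻¹ * n⁻¹ ∈ NN ι α L10 := by
  rintro n (hn | hn)
  · exact Subgroup.mul_mem _ (sU' sP hs n hn) (Subgroup.inv_mem _ hn)
  · have e : s * n * s⁻¹ * n⁻¹ = t * (s * (t⁻¹ * n) * s⁻¹ * (t⁻¹ * n)⁻¹) * t⁻¹ := by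
      calc s * n * s⁻¹ * n⁻¹ = (s * t) * (t⁻¹ * n) * s⁻¹ * n⁻¹ := by group
        _ = (t * s) * (t⁻¹ * n) * s⁻¹ * n⁻¹ := by rw [st]
        _ = _ := by group
    rw [e]
    exact tU' R _ (Subgroup.mul_mem _ (sU' sP hs _ hn) (Subgroup.inv_mem _ hn))

/-- `U* ⟨t, s⟩` -/
def H1 (ss : s * s ∈ H0 R) : Subgroup G := ext (H0 R) s (sH0 R st sP hs) ss

variable (ss : s * s ∈ H0 R)

theorem comm_H1 : ∀ g ∈ H1 R st sP hs ss, ∀ h ∈ H1 R st sP hs ss,
    g * h * g⁻¹ * h⁻¹ ∈ NN ι α L10 :=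
  comm_ext (sH0 R st sP hs) ss (nU R) (sU' sP hs) (comm_H0 R) (s_comm R st sP hs)

theorem H0_le_H1 : H0 R ≤ H1 R st sP hs ss := le_ext

theorem s_mem_H1 : s ∈ H1 R st sP hs ss := self_mem_ext

theorem cen_H1 {x : G} (hx : x ∈ H1 R st sP hs ss) (h : x * t = t * x) :
    ∃ c : CC, (c : L5) ∈ T0 ∧ (x = ι c ∨ x = t * ι c ∨ x = s * ι c ∨ x = s * t * ι c) := by
  rcases hx with hx | hx
  · obtain ⟨c, hc, e | e⟩ := cen_H0 R hx h
    · exact ⟨c, hc, Or.inl e⟩
    · exact ⟨c, hc, Or.inr (Or.inl e)⟩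
  · obtain ⟨c, hc, e | e⟩ := cen_H0 R hx (by
      calc s⁻¹ * x * t = s⁻¹ * (x * t) := by group
        _ = s⁻¹ * (t * x) := by rw [h]
        _ = s⁻¹ * (t * s) * s⁻¹ * x := by group
        _ = s⁻¹ * (s * t) * s⁻¹ * x := by rw [st]
        _ = t * (s⁻¹ * x) := by group)
    · exact ⟨c, hc, Or.inr (Or.inr (Or.inl (by rw [← e]; group)))⟩
    · refine ⟨c, hc, Or.inr (Or.inr (Or.inr ?_))⟩
      calc x = s * (s⁻¹ * x) := by group
        _ = s * (t * ι c) := by rw [e]
        _ = s * t * ι c := by group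

/-- elements of `H1 ∩ ι CC` -/
theorem ι_mem_H1 {c : CC} (h : ι c ∈ H1 R st sP hs ss) : (c : L5) ∈ T0 := by
  obtain ⟨w, hw, e | e | e | e⟩ := cen_H1 R st sP hs ss h (R.tr c)
  · rw [R.inj e]; exact hw
  · exfalso
    apply t_notMem R (c * w⁻¹)
    rw [map_mul, e, map_inv]; group
  · exfalso
    apply (s_notMem R sP (c * w⁻¹)).1
    rw [map_mul, e, map_inv]; group
  · exfalso
    apply (s_notMem R sP (c * w⁻¹)).2
    rw [map_mul, e, map_inv]
    calc s = s * (t * t) := by rw [R.tt, mul_one]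
      _ = (s * t) * t := by group
      _ = (t * s) * t := by rw [st]
      _ = t * (s * t) := by group
      _ = _ := by group

theorem ιT0_H1 {w : CC} (hw : (w : L5) ∈ T0) : ι w ∈ H1 R st sP hs ss :=
  H0_le_H1 R st sP hs ss (le_H0 R (ιT0_mem hw))

/-- the conjugates of the element of order `8` -/
theorem g0_conj {g : G} (hg : ∀ x ∈ H1 R st sP hs ss, x * t = t * x →
    g⁻¹ * x * g ∈ H1 R st sP hs ss) : g⁻¹ * ι g0 * g ∈ NN ι α L10 := by
  have hS := hg s (s_mem_H1 R st sP hs ss) st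
  have key : ∀ i j : Fin 5, i < j →
      g⁻¹ * (ι (rt i j) * ι (rt j.rev i.rev)) * g ∈ NN ι α L10 := by
    intro i j hij
    have hX := hg (ι (rt i j)) (ιT0_H1 R st sP hs ss (rt_mem_T0 hij)) (R.tr _)
    have h1 := comm_H1 R st sP hs ss _ hX _ (Subgroup.inv_mem _ hS)
    have xi : (ι (rt i j))⁻¹ = ι (rt i j) := inv_eq_of_mul_eq_one_right (ι_sq i j)
    have e : g⁻¹ * ι (rt i j) * g * (g⁻¹ * s * g)⁻¹ * (g⁻¹ * ι (rt i j) * g)⁻¹ *
        (g⁻¹ * s * g)⁻¹⁻¹ = g⁻¹ * (ι (rt i j) * ι (rt j.rev i.rev)) * g := by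
      calc g⁻¹ * ι (rt i j) * g * (g⁻¹ * s * g)⁻¹ * (g⁻¹ * ι (rt i j) * g)⁻¹ *
          (g⁻¹ * s * g)⁻¹⁻¹ = g⁻¹ * (ι (rt i j) * (s⁻¹ * (ι (rt i j))⁻¹ * s)) * g := by group
        _ = _ := by rw [xi, s_rt sP]
    rwa [e] at h1
  have h1 := key 0 1 (by decide)
  have h2 := key 1 2 (by decide)
  have d1 : (2 : Fin 5).rev = 2 := by decide
  have d2 : (1 : Fin 5).rev = 3 := by decide
  have d3 : (0 : Fin 5).rev = 4 := by decide
  rw [d2, d3] at h1
  rw [d1, d2] at h2
  have e : g⁻¹ * ι g0 * g = g⁻¹ * (ι (rt 0 1) * ι (rt 3 4)) * g *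
      (g⁻¹ * (ι (rt 1 2) * ι (rt 2 3)) * g) := by
    unfold g0
    rw [map_mul, map_mul, map_mul]; group
  rw [e]
  exact Subgroup.mul_mem _ h1 h2

/-- `H1` normalises `NN L7` -/
theorem H1_L7 : ∀ h ∈ H1 R st sP hs ss, ∀ r ∈ NN ι α L7, h * r * h⁻¹ ∈ NN ι α L7 := by
  have h0 : ∀ h ∈ H0 R, ∀ r ∈ NN ι α L7, h * r * h⁻¹ ∈ NN ι α L7 := by
    rintro h (hh | hh) r hr
    · exact NN_conj R (by decide) (by decide) (by decide) hh r hr
    · have e : h * r * h⁻¹ = t * (t⁻¹ * h * r * (t⁻¹ * h)⁻¹) * t := by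
        calc h * r * h⁻¹ = t * (t⁻¹ * h * r * (t⁻¹ * h)⁻¹) * t⁻¹ := by group
          _ = _ := by rw [tinv R]
      rw [e]
      exact (chain7 R).tN _ (NN_conj R (by decide) (by decide) (by decide) hh r hr)
  rintro h (hh | hh) r hr
  · exact h0 h hh r hr
  · have e : h * r * h⁻¹ = s * (s⁻¹ * h * r * (s⁻¹ * h)⁻¹) * s⁻¹ := by group
    rw [e]
    exact s_conj' sP hs (by decide) (by decide) _ (h0 _ hh r hr)

/-- `T` is a 2-group -/
theorem pow16 (hss : s * s = 1 ∨ s * s = ι zC ∨ s * s = t ∨ s * s = t * ι zC) {x : G}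
    (hx : x ∈ H1 R st sP hs ss) (h : x * t = t * x) : x ^ 2 ^ 4 = 1 := by
  have hzT : (zC : L5) ∈ T0 := by
    rw [← rt_04]; exact rt_mem_T0 (by decide)
  -- the square
  have hsq : ∃ w : CC, (w : L5) ∈ T0 ∧ (x * x = ι w ∨ x * x = t * ι w) := by
    obtain ⟨c, hc, e | e | e | e⟩ := cen_H1 R st sP hs ss hx h
    · exact ⟨c * c, T0.mul_mem hc hc, Or.inl (by rw [e, map_mul])⟩
    · exact ⟨c * c, T0.mul_mem hc hc, Or.inl (by rw [e]; exact sq_tι R c)⟩
    all_goals
      have hτ : ((tauC c : CC) : L5) ∈ T0 := tau_mem_T0 hc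
      have e1 : x * x = s * s * ι (tauC c * c) := by
        first
        | (rw [e, map_mul, ← sP c]; group; done)
        | (have h1 := R.tr c
           have h2 : (s * t * ι c) * (s * t * ι c) = s * s * (s⁻¹ * ι c * s) * ι c := by
             calc (s * t * ι c) * (s * t * ι c) = s * (t * ι c) * (s * t) * ι c := by group
               _ = s * (ι c * t) * (t * s) * ι c := by rw [h1, st]
               _ = s * ι c * (t * t) * s * ι c := by group
               _ = s * ι c * s * ι c := by rw [R.tt, mul_one]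
               _ = _ := by group
           rw [e, h2, sP, map_mul, mul_assoc])
      rw [e1]
      rcases hss with h5 | h5 | h5 | h5
      · exact ⟨tauC c * c, T0.mul_mem hτ hc, Or.inl (by rw [h5, one_mul])⟩
      · exact ⟨zC * (tauC c * c), T0.mul_mem hzT (T0.mul_mem hτ hc),
          Or.inl (by rw [h5, map_mul ι zC])⟩
      · exact ⟨tauC c * c, T0.mul_mem hτ hc, Or.inr (by rw [h5])⟩
      · exact ⟨zC * (tauC c * c), T0.mul_mem hzT (T0.mul_mem hτ hc),
          Or.inr (by rw [h5, map_mul ι zC, mul_assoc])⟩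
  obtain ⟨w, hw, hsq⟩ := hsq
  have e : x ^ 2 ^ 4 = (x * x * (x * x) * (x * x * (x * x))) *
      (x * x * (x * x) * (x * x * (x * x))) := by
    rw [show (2 ^ 4 : ℕ) = 8 + 8 from rfl, pow_add, show (8 : ℕ) = 4 + 4 from rfl, pow_add,
      show (4 : ℕ) = 2 + 2 from rfl, pow_add, pow_two]
  rw [e]
  rcases pow4_form R hw hsq with h4 | h4
  · have e2 : (x * x * (x * x) * (x * x * (x * x))) = x * x * (x * x) * (x * x * (x * x)) := rfl
    rw [h4, one_mul]
  · rw [h4, ← map_mul, zC_sq, map_one]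

end outer

/-- **the outer case** -/
theorem outer [Finite G] (hG : commutator G = ⊤) {K : Subgroup G} {z a s : G}
    (R : Rel t ι α) (O : Outer K t z a ι s) (hz : z = ι zC)
    (hs : ∀ i j : Fin 5, i < j → s⁻¹ * α i j * s = α j.rev i.rev) : False := by
  have st := O.st
  have sP := O.sP
  have hzU : ι zC ∈ NN ι α L10 := by
    rw [← rt_04]; exact gen_mem (by decide) (Or.inl rfl)
  have hss : s * s = 1 ∨ s * s = ι zC ∨ s * s = t ∨ s * s = t * ι zC := by
    rw [← hz]; exact O.ss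
  have ss : s * s ∈ H0 R := by
    rcases hss with h | h | h | h
    · rw [h]; exact Subgroup.one_mem _
    · rw [h]; exact le_H0 R hzU
    · rw [h]; exact t_mem_H0 R
    · rw [h]; exact Subgroup.mul_mem _ (t_mem_H0 R) (le_H0 R hzU)
  set H := H1 R st sP hs ss with hH
  set T := H ⊓ Subgroup.centralizer ({t} : Set G) with hT
  have memT : ∀ x, x ∈ T ↔ x ∈ H ∧ x * t = t * x := by
    intro x
    rw [hT, Subgroup.mem_inf, Subgroup.mem_centralizer_singleton_iff]
  have hUH : NN ι α L10 ≤ H := (le_H0 R).trans (H0_le_H1 R st sP hs ss)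
  have htH : t ∈ H := H0_le_H1 R st sP hs ss (t_mem_H0 R)
  have hsH : s ∈ H := s_mem_H1 R st sP hs ss
  have hT2 : IsPGroup 2 T := by
    rintro ⟨x, hx⟩
    obtain ⟨h1, h2⟩ := (memT x).1 hx
    exact ⟨4, Subtype.ext (pow16 R st sP hs ss hss h1 h2)⟩
  -- the coset `t U*`
  have hmain : ∀ g : G, (∀ x ∈ T, g⁻¹ * x * g ∈ H) → t⁻¹ * (g⁻¹ * t * g) ∈ NN ι α L10 →
      g ∈ H := by
    intro g hgT hd
    obtain ⟨u, hu, hct, hcT⟩ := to_cent R hUH hd
      (fun x hx hxt => hgT x ((memT x).2 ⟨hx, hxt⟩))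
    set c := g * u with hc
    have hg : g = c * u⁻¹ := by rw [hc]; group
    suffices h : c ∈ H by rw [hg]; exact H.mul_mem h (H.inv_mem (hUH hu))
    have h1 := g0_conj R st sP hs ss (fun x hx hxt => (hcT x hx hxt).1)
    obtain ⟨-, h2⟩ := hcT (ι g0) (ιT0_H1 R st sP hs ss g0_mem) (R.tr g0)
    obtain ⟨w0, hw0, h3⟩ := cen_U R h1 h2
    have h4 := z_fix R hw0 (Or.inl h3)
    rw [← hz] at h4
    obtain ⟨c', hc'⟩ := O.N c hct h4
    have hc'0 : (c' : L5) ∈ T0 := by
      apply mem_of_norm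
      intro w hw
      apply ι_mem_H1 R st sP hs ss
      have hτ : ((tauC w : CC) : L5) ∈ T0 := tau_mem_T0 hw
      have tw : ∀ w : CC, t⁻¹ * ι w * t = ι w := by
        intro w
        have := R.tr w
        calc t⁻¹ * ι w * t = t⁻¹ * (ι w * t) := by group
          _ = t⁻¹ * (t * ι w) := by rw [this]
          _ = ι w := by group
      rcases hc' with h | h | h | h
      · have := (hcT (ι w) (ιT0_H1 R st sP hs ss hw) (R.tr w)).1
        rw [h] at this
        rwa [map_mul, map_mul, map_inv]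
      · have := (hcT (ι w) (ιT0_H1 R st sP hs ss hw) (R.tr w)).1
        rw [h] at this
        have e : (t * ι c')⁻¹ * ι w * (t * ι c') = ι (c'⁻¹ * w * c') := by
          rw [map_mul, map_mul, map_inv]
          calc (t * ι c')⁻¹ * ι w * (t * ι c') = (ι c')⁻¹ * (t⁻¹ * ι w * t) * ι c' := by group
            _ = _ := by rw [tw]
        rwa [e] at this
      · have := (hcT (ι (tauC w)) (ιT0_H1 R st sP hs ss hτ) (R.tr _)).1
        rw [h] at this
        have e : (s * ι c')⁻¹ * ι (tauC w) * (s * ι c') = ι (c'⁻¹ * w * c') := by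
          rw [map_mul, map_mul, map_inv]
          calc (s * ι c')⁻¹ * ι (tauC w) * (s * ι c')
              = (ι c')⁻¹ * (s⁻¹ * ι (tauC w) * s) * ι c' := by group
            _ = _ := by rw [sP, tauC_tauC]
        rwa [e] at this
      · have := (hcT (ι (tauC w)) (ιT0_H1 R st sP hs ss hτ) (R.tr _)).1
        rw [h] at this
        have e : (s * t * ι c')⁻¹ * ι (tauC w) * (s * t * ι c') = ι (c'⁻¹ * w * c') := by
          rw [map_mul, map_mul, map_inv]
          calc (s * t * ι c')⁻¹ * ι (tauC w) * (s * t * ι c')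
              = (ι c')⁻¹ * (t⁻¹ * (s⁻¹ * ι (tauC w) * s) * t) * ι c' := by group
            _ = _ := by rw [sP, tauC_tauC, tw]
        rwa [e] at this
    have hι := ιT0_H1 R st sP hs ss hc'0
    rcases hc' with h | h | h | h
    · rw [h]; exact hι
    · rw [h]; exact H.mul_mem htH hι
    · rw [h]; exact H.mul_mem hsH hι
    · rw [h]; exact H.mul_mem (H.mul_mem hsH htH) hι
  -- squares in `H0`
  have sqH0 : ∀ v ∈ H0 R, v * v ∈ NN ι α L10 := by
    rintro v (hv | hv)
    · exact Subgroup.mul_mem _ hv hv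
    · have e : v * v = t * (t⁻¹ * v) * t * (t⁻¹ * v) := by group
      rw [e]
      exact Subgroup.mul_mem _ ((chain10 R).tN _ hv) hv
  by_cases hA : s * s ∈ NN ι α L10
  · -- `S*/U*` is a four-group
    have k1 : ∀ n ∈ NN ι α L10, (s * t)⁻¹ * n * (s * t) ∈ NN ι α L10 := by
      intro n hn
      have e : (s * t)⁻¹ * n * (s * t) = t⁻¹ * (s⁻¹ * n * s) * t := by group
      rw [e]; exact tU R _ (sU sP hs _ hn)
    have k2 : s * t * (s * t) ∈ NN ι α L10 := by
      have e : s * t * (s * t) = s * s * (t * t) := by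
        calc s * t * (s * t) = s * (t * s) * t := by group
          _ = s * (s * t) * t := by rw [st]
          _ = _ := by group
      rw [e, R.tt, mul_one]; exact hA
    refine finish hG (NN ι α L10) (ext (NN ι α L10) (s * t) k1 k2) H le_ext
      (comm_H1 R st sP hs ss) t htH ?_ R.tt T inf_le_left hT2 (fun x hx => ((memT x).1 hx).2) ?_
    · rintro (h | h)
      · exact t_notMem_U R h
      · have e : (s * t)⁻¹ * t = s⁻¹ := by
          calc (s * t)⁻¹ * t = (t * s)⁻¹ * t := by rw [st]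
            _ = s⁻¹ * t⁻¹ * t := by group
            _ = s⁻¹ := by group
        rw [e] at h
        have h2 := Subgroup.inv_mem _ h
        rw [inv_inv] at h2
        obtain ⟨c, -, h3⟩ := cen_U R h2 st
        exact (s_notMem R sP c).1 h3
    · intro g hgT hd
      rcases hd with (hd | hd) | (hd | hd)
      · exact Or.inl (Or.inl hd)
      · exact Or.inr (hmain g hgT hd)
      · exfalso
        set d := g⁻¹ * t * g with hd0
        have dd : d * d = 1 := by
          rw [hd0]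
          calc g⁻¹ * t * g * (g⁻¹ * t * g) = g⁻¹ * (t * t) * g := by group
            _ = 1 := by rw [R.tt]; group
        have hgT' : ∀ x ∈ H, x * t = t * x → g⁻¹ * x * g ∈ H :=
          fun x hx hxt => hgT x ((memT x).2 ⟨hx, hxt⟩)
        have hy := g0_conj R st sP hs ss hgT'
        have hyd : g⁻¹ * ι g0 * g * d = d * (g⁻¹ * ι g0 * g) := by
          have := R.tr g0
          calc g⁻¹ * ι g0 * g * d = g⁻¹ * (ι g0 * t) * g := by rw [hd0]; group
            _ = g⁻¹ * (t * ι g0) * g := by rw [this]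
            _ = d * (g⁻¹ * ι g0 * g) := by rw [hd0]; group
        have h8 := outer_cent R (s := s) (u := s⁻¹ * d) (d := d) st sP hs H hsH hUH
          (H1_L7 R st sP hs ss) hd (by group) dd hy hyd
        have h9 := pow4_NN8 R h8
        have h10 : ι zC = 1 := by
          have e1 : (g⁻¹ * ι g0 * g) ^ 4 = g⁻¹ * (ι g0) ^ 4 * g := by
            have := conj_pow (i := 4) (a := g⁻¹) (b := ι g0)
            rwa [inv_inv] at this
          rw [e1, ← map_pow, g0_pow] at h9
          calc ι zC = g * (g⁻¹ * ι zC * g) * g⁻¹ := by group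
            _ = 1 := by rw [h9]; group
        rw [← rt_04] at h10
        exact ι04_ne R h10
      · left; right
        have e : (s * t)⁻¹ * (g⁻¹ * t * g) = t⁻¹ * (s⁻¹ * (g⁻¹ * t * g)) := by group
        rw [e]; exact hd
  · -- `S*/U*` is cyclic
    refine finish hG (NN ι α L10) (NN ι α L10) H le_rfl
      (comm_H1 R st sP hs ss) t htH (t_notMem_U R) R.tt T inf_le_left hT2
      (fun x hx => ((memT x).1 hx).2) ?_
    intro g hgT hd
    rcases hd with (hd | hd) | hd
    · exact Or.inl hd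
    · exact Or.inr (hmain g hgT hd)
    · exfalso
      set d := g⁻¹ * t * g with hd0
      have dd : d * d = 1 := by
        rw [hd0]
        calc g⁻¹ * t * g * (g⁻¹ * t * g) = g⁻¹ * (t * t) * g := by group
          _ = 1 := by rw [R.tt]; group
      apply hA
      set v := s⁻¹ * d with hv
      have hvH : v ∈ H := H0_le_H1 R st sP hs ss hd
      have e1 : s * s * (s⁻¹ * v * s⁻¹⁻¹ * v⁻¹) * (v * v) = 1 := by
        rw [← dd]
        have : d = s * v := by rw [hv]; group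
        rw [this]; group
      have e2 : s * s = (v * v)⁻¹ * (s⁻¹ * v * s⁻¹⁻¹ * v⁻¹)⁻¹ := by
        rw [eq_comm]
        calc (v * v)⁻¹ * (s⁻¹ * v * s⁻¹⁻¹ * v⁻¹)⁻¹
            = (s * s * (s⁻¹ * v * s⁻¹⁻¹ * v⁻¹) * (v * v)) * (v * v)⁻¹ *
              (s⁻¹ * v * s⁻¹⁻¹ * v⁻¹)⁻¹ := by rw [e1, one_mul]
          _ = s * s := by group
      rw [e2]
      exact Subgroup.mul_mem _ (Subgroup.inv_mem _ (sqH0 v hd))
        (Subgroup.inv_mem _ (comm_H1 R st sP hs ss _ (Subgroup.inv_mem _ hsH) _ hvH))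

end Cfsg.Agent.OddHalf.UT5.End

end
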