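import Cfsg.Agent.OddHalf.UT5.Model
import Cfsg.Agent.SporadicRecognition.HeldCard

/-!
# ODD half, groups with Sylow 2-subgroup `UT(5, 2)`: centralizers in the model (helper83)
-/

set_option autoImplicit false
set_option Elab.async false

namespace Cfsg.Agent.OddHalf.UT5.Facts

open Cfsg.Agent.SporadicRecognition.HeldModel Cfsg.Agent.Lib.F2Mat Cfsg.Agent.OddHalf.UT5.Model
open Cfsg.Agent.Held.Code (allC of_allC imp imp_mp C)

theorem C_cd (u : CC) : C (cd (u : L5)) := by
  have h1 : (u : L5) * zz = zz * (u : L5) := mem_CC.1 u.2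
  refine ⟨cd_lt _, ?_, cd (u : L5)⁻¹, cd_lt _, ?_, ?_⟩
  · show Lib.F2Mat.mul 5 (cd u) Held.Code.zc = Lib.F2Mat.mul 5 Held.Code.zc (cd u)
    have e : (Held.Code.zc : ℕ) = cd zz := cd_zz.symm
    rw [e, ← cd_mul, ← cd_mul, h1]
  · show Lib.F2Mat.mul 5 (cd u) _ = Held.Code.e1
    rw [← cd_mul, mul_inv_cancel, cd_one, Held.Code.one_eq_e1]
  · show Lib.F2Mat.mul 5 _ (cd u) = Held.Code.e1
    rw [← cd_mul, inv_mul_cancel, cd_one, Held.Code.one_eq_e1]

/-- `c` commutes with the codes in the list -/
def cm : List ℕ → ℕ → Bool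
  | [], _ => true
  | w :: l, c => cond (Nat.beq (Lib.F2Mat.mul 5 c w) (Lib.F2Mat.mul 5 w c)) (cm l c) false

/-- `c` is in the list -/
def mem : List ℕ → ℕ → Bool
  | [], _ => false
  | w :: l, c => cond (Nat.beq c w) true (mem l c)

theorem cm_of {l : List (Fin 5 × Fin 5)} {u : CC} (h : ∀ p ∈ l, u * rt p.1 p.2 = rt p.1 p.2 * u) :
    cm (l.map fun p => crt p.1 p.2) (cd (u : L5)) = true := by
  induction l with
  | nil => rfl
  | cons p l ih =>
    have h1 : Nat.beq (Lib.F2Mat.mul 5 (cd (u : L5)) (crt p.1 p.2))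
        (Lib.F2Mat.mul 5 (crt p.1 p.2) (cd (u : L5))) = true := by
      rw [← cd_rt, ← cd_mul, ← cd_mul, ← Subgroup.coe_mul, ← Subgroup.coe_mul,
        h p (List.mem_cons_self ..)]
      exact Nat.beq_refl _
    show cond _ _ _ = true
    rw [h1]
    exact ih fun q hq => h q (List.mem_cons_of_mem _ hq)

theorem of_mem {L : List (List (Fin 5 × Fin 5))} {u : CC} (h : mem (L.map cpr) (cd (u : L5)) = true) :
    ∃ w ∈ L, u = pr w := by
  induction L with
  | nil => exact absurd h Bool.false_ne_true
  | cons p l ih =>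
    have h' : cond (Nat.beq (cd (u : L5)) (cpr p)) true (mem (l.map cpr) (cd (u : L5))) = true := h
    cases h1 : Nat.beq (cd (u : L5)) (cpr p) with
    | true =>
      exact ⟨p, List.mem_cons_self .., eq_of_cd (by rw [cd_pr]; exact Nat.eq_of_beq_eq_true h1)⟩
    | false =>
      rw [h1] at h'
      obtain ⟨w, hw, e⟩ := ih h'
      exact ⟨w, List.mem_cons_of_mem _ hw, e⟩

/-- squaring -/
def sq (c : ℕ) : ℕ := force c fun c => Lib.F2Mat.mul 5 c c

/-- repeated squaring -/
def sqn : ℕ → ℕ → ℕ
  | 0, c => c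
  | n + 1, c => force (sq c) fun c => sqn n c

/-- the power `21 * 2 ^ 10` -/
def pw (c : ℕ) : ℕ := force (Lib.F2Mat.mul 5 (sq (sq (Lib.F2Mat.mul 5 (sq (sq c)) c))) c) fun c => sqn 10 c

theorem cd_sq (u : L5) : sq (cd u) = cd (u * u) := by
  unfold sq; rw [force_eq, cd_mul]

theorem cd_sqn (n : ℕ) (u : L5) : sqn n (cd u) = cd (u ^ 2 ^ n) := by
  induction n generalizing u with
  | zero => rw [pow_zero, pow_one]; rfl
  | succ n ih =>
    show force (sq (cd u)) _ = _
    rw [force_eq, cd_sq, ih, ← pow_two, ← pow_mul, ← pow_succ']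

theorem pw_cd (u : CC) : pw (cd (u : L5)) = one 5 := by
  have h : (u : L5) ^ 21504 = 1 := by
    have h1 : u ^ 21504 = 1 := by rw [← card_CC]; exact pow_card_eq_one'
    have := congrArg Subtype.val h1
    rwa [Subgroup.coe_pow] at this
  generalize (u : L5) = g at h
  unfold pw
  rw [cd_sq, cd_sq, ← cd_mul, cd_sq, cd_sq, ← cd_mul, force_eq, cd_sqn]
  have e : g * g * (g * g) * g * (g * g * (g * g) * g) * (g * g * (g * g) * g * (g * g * (g * g) * g)) * g
      = g ^ 21 := by simp only [pow_succ, pow_zero, one_mul, mul_assoc]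
  rw [e, ← pow_mul]
  have e2 : 21 * 2 ^ 10 = 21504 := by norm_num
  rw [e2, h, cd_one]

/-- elements of `CC` commuting with given root elements -/
theorem exists_word (l : List (Fin 5 × Fin 5)) (L : List (List (Fin 5 × Fin 5)))
    (lc Lc : List ℕ) (hl : lc = l.map fun p => crt p.1 p.2) (hL : Lc = L.map cpr)
    (hchk : allC (fun c => imp (cm lc c) (imp (Nat.beq (pw c) 17043521) (mem Lc c))) = true) (u : CC)
    (h : ∀ p ∈ l, u * rt p.1 p.2 = rt p.1 p.2 * u) : ∃ w ∈ L, u = pr w := by
  apply of_mem
  rw [← hL]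
  refine imp_mp (imp_mp (of_allC hchk (C_cd u)) (by rw [hl]; exact cm_of h)) ?_
  rw [pw_cd]
  decide +kernel

open Cfsg.Agent.Held.Code (allb of_allb mkC) in
/-- a quarter of the enumeration `allC` -/
private def part (P : ℕ → Bool) (k : ℕ) : Bool :=
  allb 4 fun a => allb 16 fun b => allb 16 fun d => allb 16 fun f =>
    force (mkC (Nat.add (Nat.mul 4 k) a) b d f) P

private theorem allb_of {N : ℕ} {P : ℕ → Bool} (h : ∀ n < N, P n = true) : Held.Code.allb N P = true := by
  induction N with
  | zero => rfl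
  | succ N ih =>
    show cond (P N) (Held.Code.allb N P) false = true
    rw [h N (Nat.lt_succ_self N), ih fun n hn => h n (Nat.lt_succ_of_lt hn)]
    rfl

private theorem parts {P : ℕ → Bool} (h0 : part P 0 = true) (h1 : part P 1 = true) (h2 : part P 2 = true)
    (h3 : part P 3 = true) : allC P = true := by
  apply allb_of
  intro a ha
  have hk : ∀ k < 4, part P k = true := by
    intro k hk
    interval_cases k
    · exact h0
    · exact h1
    · exact h2
    · exact h3
  have e : a = Nat.add (Nat.mul 4 (a / 4)) (a % 4) := (Nat.div_add_mod a 4).symm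
  have h := Held.Code.of_allb (hk (a / 4) (by omega)) (a % 4) (Nat.mod_lt _ (by norm_num))
  rw [← e] at h
  exact h

/-- all subwords -/
def subs : List (Fin 5 × Fin 5) → List (List (Fin 5 × Fin 5))
  | [] => [[]]
  | p :: l => subs l ++ (subs l).map (p :: ·)


/-- `C(V2) = V2` -/
theorem cV2 (u : CC) (h : ∀ p ∈ ([(1, 3), (2, 3)] : List (Fin 5 × Fin 5)), u * rt p.1 p.2 = rt p.1 p.2 * u) :
    ∃ w ∈ subs [(0, 3), (0, 4), (1, 3), (1, 4), (2, 3), (2, 4)], u = pr w :=
  exists_word _ _ [17043777, 17051713]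
    [17043521, 17059905, 17051713, 17068097, 17044033, 17060417, 17052225, 17068609, 17043777, 17060161, 17051969, 17068353, 17044289, 17060673, 17052481, 17068865, 17043537, 17059921, 17051729, 17068113, 17044049, 17060433, 17052241, 17068625, 17043793, 17060177, 17051985, 17068369, 17044305, 17060689, 17052497, 17068881, 17043529, 17059913, 17051721, 17068105, 17044041, 17060425, 17052233, 17068617, 17043785, 17060169, 17051977, 17068361, 17044297, 17060681, 17052489, 17068873, 17043545, 17059929, 17051737, 17068121, 17044057, 17060441, 17052249, 17068633, 17043801, 17060185, 17051993, 17068377, 17044313, 17060697, 17052505, 17068889]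
    (by decide +kernel) (by decide +kernel)
    (parts (by decide +kernel) (by decide +kernel) (by decide +kernel) (by decide +kernel)) u h

/-- double centralizer of `z, x14` -/
theorem c14 (u : CC) (h : ∀ p ∈ ([(1, 2), (2, 3), (3, 2)] : List (Fin 5 × Fin 5)), u * rt p.1 p.2 = rt p.1 p.2 * u) :
    ∃ w ∈ subs [(0, 4), (1, 4)], u = pr w :=
  exists_word _ _ [17043649, 17051713, 17174593]
    [17043521, 17044033, 17043537, 17044049]
    (by decide +kernel) (by decide +kernel)
    (parts (by decide +kernel) (by decide +kernel) (by decide +kernel) (by decide +kernel)) u h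

/-- double centralizer of `z, x03` -/
theorem c03 (u : CC) (h : ∀ p ∈ ([(0, 1), (1, 2), (2, 3)] : List (Fin 5 × Fin 5)), u * rt p.1 p.2 = rt p.1 p.2 * u) :
    ∃ w ∈ subs [(0, 3), (0, 4)], u = pr w :=
  exists_word _ _ [17043523, 17043649, 17051713]
    [17043521, 17043537, 17043529, 17043545]
    (by decide +kernel) (by decide +kernel)
    (parts (by decide +kernel) (by decide +kernel) (by decide +kernel) (by decide +kernel)) u h

/-- double centralizer of `x14, x24` -/
theorem c24 (u : CC) (h : ∀ p ∈ ([(1, 3), (2, 3), (3, 4)] : List (Fin 5 × Fin 5)), u * rt p.1 p.2 = rt p.1 p.2 * u) :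
    ∃ w ∈ subs [(0, 4), (1, 4), (2, 4)], u = pr w :=
  exists_word _ _ [17043777, 17051713, 17567809]
    [17043521, 17059905, 17044033, 17060417, 17043537, 17059921, 17044049, 17060433]
    (by decide +kernel) (by decide +kernel)
    (parts (by decide +kernel) (by decide +kernel) (by decide +kernel) (by decide +kernel)) u h

/-- double centralizer of `x01, x12` -/
theorem c0112 (u : CC) (h : ∀ p ∈ ([(0, 3), (3, 2)] : List (Fin 5 × Fin 5)), u * rt p.1 p.2 = rt p.1 p.2 * u) :
    ∃ w ∈ subs [(0, 1), (1, 2), (0, 2), (0, 4), (1, 4)], u = pr w :=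
  exists_word _ _ [17043529, 17174593]
    [17043521, 17044033, 17043537, 17044049, 17043525, 17044037, 17043541, 17044053, 17043649, 17044161, 17043665, 17044177, 17043653, 17044165, 17043669, 17044181, 17043523, 17044051, 17043539, 17044035, 17043527, 17044055, 17043543, 17044039, 17043655, 17044183, 17043671, 17044167, 17043651, 17044179, 17043667, 17044163]
    (by decide +kernel) (by decide +kernel)
    (parts (by decide +kernel) (by decide +kernel) (by decide +kernel) (by decide +kernel)) u h

/-- double centralizer of `x01, x14` -/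
theorem c0114 (u : CC) (h : ∀ p ∈ ([(2, 3), (3, 2)] : List (Fin 5 × Fin 5)), u * rt p.1 p.2 = rt p.1 p.2 * u) :
    ∃ w ∈ subs [(0, 1), (0, 4), (1, 4)], u = pr w :=
  exists_word _ _ [17051713, 17174593]
    [17043521, 17044033, 17043537, 17044049, 17043523, 17044051, 17043539, 17044035]
    (by decide +kernel) (by decide +kernel)
    (parts (by decide +kernel) (by decide +kernel) (by decide +kernel) (by decide +kernel)) u h

end Cfsg.Agent.OddHalf.UT5.Facts
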