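import Cfsg.Agent.OddHalf.UT5.KLevel
import Cfsg.Agent.OddHalf.UT5.Model
import Cfsg.Agent.OddHalf.UT5.Glue
import Cfsg.Agent.OddHalf.UT5.KBasic
import Cfsg.Agent.OddHalf.D8.MainE

-- merged: Cfsg.Agent.OddHalf.UT5.KY
section

/-!
# The elements `y1`, `y2` of a simple group with `Hyp z ι`, in the form of `UT5/Core.lean` (helper579)
-/

set_option autoImplicit false

namespace Cfsg.Agent.OddHalf.UT5.KY

open Cfsg.Agent.SporadicRecognition.HeldModel Cfsg.Agent.Held Cfsg.Agent.Held.Code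
  Cfsg.Agent.OddHalf.UT5.Model

variable {G : Type*} [Group G] {z : G} {ι : CC →* G}

theorem crt_eq {i j : Fin 5} (hij : i < j) : crt i j = X i j := by
  revert i j; decide +kernel

theorem ph_rt {ph : ℕ → G} (hl : SideHyp.Link ι ph) {i j : Fin 5} (hij : i < j) :
    ph (X i j) = ι (rt i j) := by
  rw [← hl, cd_rt, crt_eq hij]

/-- the relations of `y1`, `y2` in the form used in `UT5/Core.lean` -/
structure YY {G : Type*} [Group G] (ι : CC →* G) (y1 y2 : G) : Prop where
  y13 : y1 ^ 3 = 1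
  y23 : y2 ^ 3 = 1
  y1a : ∀ i : Fin 5, i < 3 → y1⁻¹ * ι (rt i 3) * y1 = ι (rt i 4)
  y1b : ∀ i : Fin 5, i < 3 → y1⁻¹ * ι (rt i 4) * y1 = ι (rt i 3) * ι (rt i 4)
  y2a : ∀ j : Fin 5, 1 < j → y2⁻¹ * ι (rt 1 j) * y2 = ι (rt 0 j)
  y2b : ∀ j : Fin 5, 1 < j → y2⁻¹ * ι (rt 0 j) * y2 = ι (rt 1 j) * ι (rt 0 j)

theorem yy_of_config {ph : ℕ → G} (hl : SideHyp.Link ι ph) {t1 t2 : ℕ} {f y1 y2 : G}
    (c : Config.Config (ConfigThm.xs ph) t1 t2 f y1 y2) : YY ι y1 y2 where
  y13 := c.side1.cube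
  y23 := c.side2.cube
  y1a := by
    intro i hi
    have h1 : ph (X i 3) * y1 = y1 * ph (X i 4) := c.side1.act3 i hi
    have e3 : ph (X i 3) = ι (rt i 3) := ph_rt hl (i := i) (j := 3) hi
    have e4 : ph (X i 4) = ι (rt i 4) := ph_rt hl (i := i) (j := 4) (hi.trans (by decide))
    rw [← e3, ← e4, mul_assoc, h1, inv_mul_cancel_left]
  y1b := by
    intro i hi
    have h1 : ph (X i 4) * y1 = y1 * (ph (X i 3) * ph (X i 4)) := c.side1.act4 i hi
    have e3 : ph (X i 3) = ι (rt i 3) := ph_rt hl (i := i) (j := 3) hi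
    have e4 : ph (X i 4) = ι (rt i 4) := ph_rt hl (i := i) (j := 4) (hi.trans (by decide))
    rw [← e3, ← e4, mul_assoc, h1, inv_mul_cancel_left]
  y2a := by
    have h1 : ∀ i < 3, ph (X 1 (4 - i)) * y2 = y2 * ph (X 0 (4 - i)) := c.side2.act3
    intro j hj
    have e1 : ph (X 1 j) = ι (rt 1 j) := ph_rt hl (i := 1) (j := j) hj
    have e0 : ph (X 0 j) = ι (rt 0 j) := ph_rt hl (i := 0) (j := j) (lt_trans (by decide) hj)
    have hj' : (1 : ℕ) < (j : ℕ) := hj
    have h2 := h1 (4 - (j : ℕ)) (by have := j.2; omega)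
    have e : 4 - (4 - (j : ℕ)) = (j : ℕ) := by have := j.2; omega
    rw [e] at h2
    rw [← e1, ← e0, mul_assoc, h2, inv_mul_cancel_left]
  y2b := by
    have h1 : ∀ i < 3, ph (X 0 (4 - i)) * y2 = y2 * (ph (X 1 (4 - i)) * ph (X 0 (4 - i))) :=
      c.side2.act4
    intro j hj
    have e1 : ph (X 1 j) = ι (rt 1 j) := ph_rt hl (i := 1) (j := j) hj
    have e0 : ph (X 0 j) = ι (rt 0 j) := ph_rt hl (i := 0) (j := j) (lt_trans (by decide) hj)
    have hj' : (1 : ℕ) < (j : ℕ) := hj
    have h2 := h1 (4 - (j : ℕ)) (by have := j.2; omega)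
    have e : 4 - (4 - (j : ℕ)) = (j : ℕ) := by have := j.2; omega
    rw [e] at h2
    rw [← e1, ← e0, mul_assoc, h2, inv_mul_cancel_left]

/-- **`y1`, `y2`** for a simple group with `Hyp z ι`; `ι CC`, `y1`, `y2` generate; automorphisms trivial on
`ι CC` are `1` or conjugation by `z`. -/
theorem exists_yy [Finite G] [IsSimpleGroup G] (h : Hyp z ι) : ∃ y1 y2 : G, YY ι y1 y2 ∧
    Subgroup.centralizer ({z} : Set G) ⊔ Subgroup.closure {y1, y2} = ⊤ := by
  obtain ⟨ph, t1, t2, y1, y2, -, -, E, hl, c, ht⟩ := KLevel.exists_config h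
  exact ⟨y1, y2, yy_of_config hl c, ht⟩

theorem aut_trivial [Finite G] [IsSimpleGroup G] (h : Hyp z ι) (α : MulAut G)
    (hα : ∀ c : CC, α (ι c) = ι c) : α = 1 ∨ α = MulAut.conj z := KLevel.aut_trivial h α hα

end Cfsg.Agent.OddHalf.UT5.KY

end

-- merged: Cfsg.Agent.OddHalf.UT5.Row
section

/-!
# ODD half, groups with Sylow 2-subgroup `UT(5, 2)`: the rows (helper355)

`End`: no finite perfect group has `Core` and the clean or the outer case. `row`: with `End`, the row of `K` for every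
class of simple groups with `HeldModel.Hyp z ι` (He, M24).
-/

set_option autoImplicit false

namespace Cfsg.Agent.OddHalf.UT5.Row

open Subgroup Cfsg Cfsg.Agent.SporadicRecognition.HeldModel Cfsg.Agent.OddHalf.UT5.Core
  Cfsg.Agent.OddHalf.UT5.Glue Cfsg.Agent.OddHalf.Front.FE Cfsg.Agent.OddHalf.D8

universe u

/-- the end of the proof -/
def End : Prop :=
  ∀ (G : Type u) [Group G] [Finite G], commutator G = ⊤ →
    ∀ (K : Subgroup G) (t z a : G) (ι : CC →* G) (y1 y2 : G), Core K t z a ι y1 y2 →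
      ((∀ g, g * t = t * g → g * z = z * g → ∃ c, g = ι c ∨ g = t * ι c) ∨
        ∃ s, Outer K t z a ι s) → False

section

variable {K : Type*} [Group K] {z : K} {ι : CC →* K}

/-- `Aut(K)/K` is abelian -/
theorem sch [Finite K] [IsSimpleGroup K] (h : Hyp z ι) : Schreier.Basic.Sch K := by
  intro C hC
  have hn : ((MulAut.conj : K →* MulAut K).range).Normal := by
    refine ⟨fun f hf α => ?_⟩
    obtain ⟨k, rfl⟩ := hf
    refine ⟨α k, ?_⟩
    ext x
    simp only [MulAut.conj_apply, MulAut.mul_apply, map_mul, map_inv, MulAut.apply_inv_self]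
  have hcomm : commutator (MulAut K) ≤ (MulAut.conj : K →* MulAut K).range := by
    rcases KBasic.index_le_two h with e | e
    · rw [index_eq_one] at e
      rw [e]; exact le_top
    · have h1 := (Subgroup.index_eq_two_iff.1 e)
      rw [_root_.commutator_def, commutator_le]
      intro a _ b _
      have hm : ∀ x y : MulAut K, x * y ∈ (MulAut.conj : K →* MulAut K).range ↔
          (x ∈ (MulAut.conj : K →* MulAut K).range ↔ y ∈ (MulAut.conj : K →* MulAut K).range) :=
        fun x y => Subgroup.mul_mem_iff_of_index_two e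
      rw [commutatorElement_def, hm, hm, hm, inv_mem_iff, inv_mem_iff]
      tauto
  rw [← hC]
  exact (commutator_mono le_top le_top).trans ((_root_.commutator_def (MulAut K)).symm.le.trans hcomm)

/-- the facts on `K` -/
theorem exists_kl [Finite K] [IsSimpleGroup K] (h : Hyp z ι) : ∃ y1 y2, KL z ι y1 y2 := by
  obtain ⟨y1, y2, c, -⟩ := KY.exists_yy h
  exact ⟨y1, y2,
    { hyp := h
      y13 := c.y13
      y23 := c.y23
      y1a := c.y1a
      y1b := c.y1b
      y2a := c.y2a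
      y2b := c.y2b
      autP := KLevel.aut_trivial h }⟩

theorem center_eq_bot [IsSimpleGroup K] (h : Hyp z ι) : center K = ⊥ := by
  rcases IsSimpleGroup.eq_bot_or_eq_top_of_normal (center K) inferInstance with e | e
  · exact e
  · exfalso
    -- `CC` is not abelian
    have h1 : ∀ c d : CC, c * d = d * c := by
      intro c d
      apply h.inj
      have h2 : ι c ∈ center K := by rw [e]; trivial
      rw [map_mul, map_mul]
      exact (mem_center_iff.1 h2 (ι d)).symm
    have h2 := (Cfsg.Agent.KFacts.TwoSix.Sheet.sheet_of h.inj).cenR (ι (Model.rt 1 2)) ⟨_, rfl⟩ (by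
      rintro _ ⟨d, rfl⟩
      have e1 : ι (Model.rt 1 2) * ι d * (ι (Model.rt 1 2))⁻¹ * (ι d)⁻¹ = 1 := by
        rw [← map_mul, h1, map_mul]; group
      rw [e1]; exact one_mem _)
    rw [Cfsg.Agent.KFacts.TwoSix.SheetDef.f_mem_im h.inj, mem_QQ_iff] at h2
    revert h2
    rw [Model.cd_rt]
    decide +kernel

end

/-- **the row** -/
theorem row (hE : End.{u}) {X : (K : Type u) → [Group K] → Prop}
    (hX : ∀ (K : Type u) [Group K], Finite K → X K →
      IsSimpleGroup K ∧ ∃ (z : K) (ι : CC →* K), Hyp z ι) : Rows.Row.{u} X := by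
  intro G _ C K S hcyc hK
  have hfin := C.fin
  obtain ⟨hs, z, ι, h⟩ := hX K inferInstance hK
  obtain ⟨t, q, st⟩ := exists_start C S hcyc (center_eq_bot h)
  obtain ⟨y1, y2, k⟩ := exists_kl h
  have o := MainE.out_of_emb C ⟨st, KBasic.basic h (sch h)⟩
  obtain ⟨a, co, hc⟩ := exists_core o k
  exact hE G (commutator_eq_top C) K t z a (K.subtype.comp ι) y1 y2 co hc

end Cfsg.Agent.OddHalf.UT5.Row

end
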