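import Cfsg.Agent.OddHalf.UT5.Fam
import Cfsg.Agent.OddHalf.UT5.Facts
import Cfsg.Agent.OddHalf.UT5.Adj
import Cfsg.Agent.OddHalf.UT5.End
import Cfsg.Agent.OddHalf.UT5.Row

-- merged: Cfsg.Agent.OddHalf.UT5.VBase
section

/-!
# ODD half, groups with Sylow 2-subgroup `UT(5, 2)`: the group `V2` (helper83)

`VV ι`: the image of `V2`; it is elementary abelian, normalised by `y1`, `C_V(y1) = 1`, and
`C(t) ∩ C(VV) = ⟨t⟩ × VV`. Commutators `[α_u, α_v]` and the lines.
-/

set_option autoImplicit false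
set_option linter.dupNamespace false

namespace Cfsg.Agent.OddHalf.UT5.VBase

open Cfsg.Agent.SporadicRecognition.HeldModel Cfsg.Agent.OddHalf.UT5.Model Cfsg.Agent.OddHalf.UT5.Core
  Cfsg.Agent.OddHalf.UT5.Facts

/-- the image of `V2` -/
def VV {G : Type*} [Group G] (ι : CC →* G) : Subgroup G :=
  Subgroup.closure {g | ∃ i j : Fin 5, i < 3 ∧ 2 < j ∧ g = ι (rt i j)}

variable {G : Type*} [Group G] {K : Subgroup G} {t z a : G} {ι : CC →* G} {y1 y2 : G}

theorem r_mem (ι : CC →* G) {i j : Fin 5} (hi : i < 3) (hj : 2 < j) : ι (rt i j) ∈ VV ι :=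
  Subgroup.subset_closure ⟨i, j, hi, hj, rfl⟩

theorem VV_comm {u v : G} (hu : u ∈ VV ι) (hv : v ∈ VV ι) : u * v = v * u := by
  have h1 : VV ι ≤ Subgroup.centralizer {g | ∃ i j : Fin 5, i < 3 ∧ 2 < j ∧ g = ι (rt i j)} := by
    unfold VV
    rw [Subgroup.closure_le]
    rintro _ ⟨i, j, hi, hj, rfl⟩
    rw [SetLike.mem_coe, Subgroup.mem_centralizer_iff]
    rintro _ ⟨k, l, hk, hl, rfl⟩
    rw [← map_mul, ← map_mul, rt_comm k l i j (by revert l i; decide) (by revert j k; decide)]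
  have h2 := Subgroup.closure_le_centralizer_centralizer
    {g | ∃ i j : Fin 5, i < 3 ∧ 2 < j ∧ g = ι (rt i j)} hv
  rw [Subgroup.mem_centralizer_iff] at h2
  exact h2 u (h1 hu)

theorem VV_sq {u : G} (hu : u ∈ VV ι) : u * u = 1 := by
  unfold VV at hu
  induction hu using Subgroup.closure_induction with
  | mem x hx =>
    obtain ⟨i, j, -, -, rfl⟩ := hx
    rw [← map_mul, rt_sq, map_one]
  | one => exact one_mul 1
  | mul x y hx hy ihx ihy =>
    calc x * y * (x * y) = x * (y * x) * y := by group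
      _ = x * (x * y) * y := by rw [VV_comm hy hx]
      _ = (x * x) * (y * y) := by group
      _ = 1 := by rw [ihx, ihy, one_mul]
  | inv x hx ih =>
    rw [← mul_inv_rev, ih, inv_one]

theorem VV_inv {u : G} (hu : u ∈ VV ι) : u⁻¹ = u := inv_eq_of_mul_eq_one_right (VV_sq hu)

theorem VV_le_K (h : Core K t z a ι y1 y2) : VV ι ≤ K := by
  unfold VV
  rw [Subgroup.closure_le]
  rintro _ ⟨i, j, -, -, rfl⟩
  exact h.ιK _

theorem z_eq (h : Core K t z a ι y1 y2) : ι (rt 0 4) = z := by rw [rt_04, h.map_zz]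

theorem z_mem (h : Core K t z a ι y1 y2) : z ∈ VV ι := by
  rw [← z_eq h]; exact r_mem ι (by decide) (by decide)

theorem pr_mem {L : List (Fin 5 × Fin 5)} {S : Subgroup G} (hL : ∀ p ∈ L, ι (rt p.1 p.2) ∈ S)
    {w : List (Fin 5 × Fin 5)} (hw : w ∈ subs L) : ι (pr w) ∈ S := by
  induction L generalizing w with
  | nil =>
    rw [subs, List.mem_singleton] at hw
    subst hw
    rw [pr_nil, map_one]; exact S.one_mem
  | cons p L ih =>
    rw [subs, List.mem_append, List.mem_map] at hw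
    rcases hw with hw | ⟨w', hw', rfl⟩
    · exact ih (fun q hq => hL q (List.mem_cons_of_mem _ hq)) hw
    · rw [pr_cons, map_mul]
      exact S.mul_mem (hL p (List.mem_cons_self ..))
        (ih (fun q hq => hL q (List.mem_cons_of_mem _ hq)) hw')

theorem ne_one_of {c : CC} (h : Core K t z a ι y1 y2) (hc : c ≠ 1) : ι c ≠ 1 := fun e =>
  hc (h.inj (e.trans (map_one ι).symm))

theorem rt_03_R1 : ((rt 0 3 : CC) : L5) ∈ R1 := by
  rw [R1, mem_pat, Pat_iff_inP, cd_rt]; decide +kernel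

theorem rt_ne {i j : Fin 5} (h : Nat.beq (crt i j) (Cfsg.Agent.Lib.F2Mat.one 5) = false) :
    rt i j ≠ 1 := by
  intro e
  have h1 : cd (rt i j : L5) = cd ((1 : CC) : L5) := by rw [e]
  rw [Subgroup.coe_one, cd_one, cd_rt] at h1
  rw [h1, Nat.beq_refl] at h
  exact absurd h (by decide)

/-- `C(t) ∩ C(V)` -/
theorem mem_or (h : Core K t z a ι y1 y2) {g : G} (hgt : g * t = t * g)
    (hV : ∀ v ∈ VV ι, g * v = v * g) : g ∈ VV ι ∨ ∃ v ∈ VV ι, g = t * v := by
  have key : ∀ c : CC, (∀ v ∈ VV ι, ι c * v = v * ι c) → ι c ∈ VV ι := by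
    intro c hc
    obtain ⟨w, hw, e⟩ := cV2 c (by
      intro p hp
      apply h.inj
      rw [map_mul, map_mul]
      simp only [List.mem_cons, List.mem_nil_iff, or_false] at hp
      rcases hp with rfl | rfl
      · exact hc _ (r_mem ι (by decide) (by decide))
      · exact hc _ (r_mem ι (by decide) (by decide)))
    rw [e]
    apply pr_mem _ hw
    intro p hp
    simp only [List.mem_cons, List.mem_nil_iff, or_false] at hp
    rcases hp with rfl | rfl | rfl | rfl | rfl | rfl <;> exact r_mem ι (by decide) (by decide)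
  obtain ⟨c, hc | hc⟩ := h.N1 g hgt (hV z (z_mem h)) ⟨rt 0 3, Or.inl rt_03_R1,
    rt_ne (by decide +kernel), (by
      intro e
      have h1 : cd (rt 0 3 : L5) = cd (rt 0 4 : L5) := by rw [e, rt_04]
      rw [cd_rt, cd_rt] at h1
      revert h1; decide +kernel), hV _ (r_mem ι (by decide) (by decide))⟩
  · left
    rw [hc] at hV ⊢
    exact key c hV
  · right
    refine ⟨ι c, key c ?_, hc⟩
    intro v hv
    have h1 := hV v hv
    rw [hc] at h1
    have h2 := h.tK v (VV_le_K h hv)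
    have h3 : t * (ι c * v) = t * (v * ι c) := by
      calc t * (ι c * v) = t * ι c * v := by group
        _ = v * (t * ι c) := h1
        _ = (v * t) * ι c := by group
        _ = t * (v * ι c) := by rw [h2]; group
    exact mul_left_cancel h3

theorem t_notMem (h : Core K t z a ι y1 y2) : t ∉ K := by
  intro htK
  obtain ⟨c, hc⟩ := h.cK t htK (h.tz.symm)
  have h1 := h.aP c
  rw [hc] at h1
  have h2 := h.ta
  rw [h1, mul_assoc, h.tt, mul_one] at h2
  exact h.z1 (mul_eq_left.1 h2.symm)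

/-! ### the action of `y1` -/

theorem y1_VV (h : Core K t z a ι y1 y2) {v : G} (hv : v ∈ VV ι) : y1⁻¹ * v * y1 ∈ VV ι := by
  unfold VV at hv
  induction hv using Subgroup.closure_induction with
  | mem x hx =>
    obtain ⟨i, j, hi, hj, rfl⟩ := hx
    rcases (by decide : ∀ j : Fin 5, 2 < j → j = 3 ∨ j = 4) j hj with rfl | rfl
    · rw [h.y1a i hi]; exact r_mem ι hi (by decide)
    · rw [h.y1b i hi]; exact (VV ι).mul_mem (r_mem ι hi (by decide)) (r_mem ι hi (by decide))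
  | one =>
    have : y1⁻¹ * 1 * y1 = 1 := by group
    rw [this]; exact (VV ι).one_mem
  | mul x y hx hy ihx ihy =>
    have : y1⁻¹ * (x * y) * y1 = (y1⁻¹ * x * y1) * (y1⁻¹ * y * y1) := by group
    rw [this]; exact (VV ι).mul_mem ihx ihy
  | inv x hx ih =>
    have : y1⁻¹ * x⁻¹ * y1 = (y1⁻¹ * x * y1)⁻¹ := by group
    rw [this]; exact (VV ι).inv_mem ih

theorem col_cases (j : Fin 5) (hj : 2 < j) : j = 3 ∨ j = 4 := by revert j; decide

/-- `1 + ω + ω² = 0` -/
theorem norm_one (h : Core K t z a ι y1 y2) {v : G} (hv : v ∈ VV ι) :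
    v * (y1⁻¹ * v * y1) * (y1⁻¹ * (y1⁻¹ * v * y1) * y1) = 1 := by
  have hv' := hv
  unfold VV at hv'
  induction hv' using Subgroup.closure_induction with
  | mem x hx =>
    obtain ⟨i, j, hi, hj, rfl⟩ := hx
    have s3 := VV_sq (r_mem ι hi (show (2 : Fin 5) < 3 by decide))
    have s4 := VV_sq (r_mem ι hi (show (2 : Fin 5) < 4 by decide))
    have c34 := VV_comm (r_mem ι hi (show (2 : Fin 5) < 3 by decide))
      (r_mem ι hi (show (2 : Fin 5) < 4 by decide))
    have a3 := h.y1a i hi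
    have a4 := h.y1b i hi
    rcases col_cases j hj with rfl | rfl
    · rw [a3, a4]
      generalize ι (rt i 3) = x3 at *
      generalize ι (rt i 4) = x4 at *
      calc x3 * x4 * (x3 * x4) = x3 * (x4 * x3) * x4 := by group
        _ = x3 * (x3 * x4) * x4 := by rw [c34]
        _ = (x3 * x3) * (x4 * x4) := by group
        _ = 1 := by rw [s3, s4, one_mul]
    · generalize ι (rt i 3) = x3 at *
      generalize ι (rt i 4) = x4 at *
      have e : y1⁻¹ * (x3 * x4) * y1 = x3 := by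
        calc y1⁻¹ * (x3 * x4) * y1 = (y1⁻¹ * x3 * y1) * (y1⁻¹ * x4 * y1) := by group
          _ = x4 * (x3 * x4) := by rw [a3, a4]
          _ = x4 * (x4 * x3) := by rw [c34]
          _ = (x4 * x4) * x3 := by group
          _ = x3 := by rw [s4, one_mul]
      rw [a4, e]
      calc x4 * (x3 * x4) * x3 = x4 * (x4 * x3) * x3 := by rw [c34]
        _ = (x4 * x4) * (x3 * x3) := by group
        _ = 1 := by rw [s3, s4, one_mul]
  | one => group
  | mul x y hx hy ihx ihy =>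
    have hx' : x ∈ VV ι := hx
    have hy' : y ∈ VV ι := hy
    have hx1 := y1_VV h hx'
    have hy1 := y1_VV h hy'
    have hx2 := y1_VV h hx1
    have ex := ihx hx'
    have ey := ihy hy'
    have e1 : y1⁻¹ * (x * y) * y1 = (y1⁻¹ * x * y1) * (y1⁻¹ * y * y1) := by group
    have e2 : y1⁻¹ * ((y1⁻¹ * x * y1) * (y1⁻¹ * y * y1)) * y1 =
      (y1⁻¹ * (y1⁻¹ * x * y1) * y1) * (y1⁻¹ * (y1⁻¹ * y * y1) * y1) := by group
    rw [e1, e2]
    generalize y1⁻¹ * (y1⁻¹ * x * y1) * y1 = x2 at *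
    generalize y1⁻¹ * (y1⁻¹ * y * y1) * y1 = y2' at *
    generalize y1⁻¹ * x * y1 = x1 at *
    generalize y1⁻¹ * y * y1 = y1' at *
    calc x * y * (x1 * y1') * (x2 * y2') = x * (y * x1) * (y1' * x2) * y2' := by group
      _ = x * (x1 * y) * (x2 * y1') * y2' := by rw [VV_comm hy' hx1, VV_comm hy1 hx2]
      _ = x * x1 * (y * x2) * y1' * y2' := by group
      _ = x * x1 * (x2 * y) * y1' * y2' := by rw [VV_comm hy' hx2]
      _ = (x * x1 * x2) * (y * y1' * y2') := by group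
      _ = 1 := by rw [ex, ey, one_mul]
  | inv x hx ih =>
    have hx' : x ∈ VV ι := hx
    have e : x⁻¹ = x := VV_inv hx'
    rw [e]
    exact ih hx'

theorem fix_y1 (h : Core K t z a ι y1 y2) {v : G} (hv : v ∈ VV ι) (e : y1⁻¹ * v * y1 = v) :
    v = 1 := by
  have h1 := norm_one h hv
  rw [e, e, VV_sq hv, one_mul] at h1
  exact h1

/-! ### the elements `α_u` -/

section Al

local notation "A" => al K z a

theorem cV (h : Core K t z a ι y1 y2) {u x : G} (hu : IsZ K z u) (huV : u ∈ VV ι)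
    (hx : x ∈ VV ι) : x * A u = A u * x :=
  h.al_comm hu (VV_le_K h hx) (VV_comm hx huV)

theorem tt_conj (h : Core K t z a ι y1 y2) (x y : G) : t * (x * y) * t = (t * x * t) * (t * y * t) := by
  calc t * (x * y) * t = t * x * (1 : G) * y * t := by group
    _ = t * x * (t * t) * y * t := by rw [h.tt]
    _ = _ := by group

theorem comm_of_conj (h : Core K t z a ι y1 y2) {x : G} (e : t * x * t = x) : x * t = t * x := by
  calc x * t = (t * x * t) * t := by rw [e]
    _ = t * x * (t * t) := by group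
    _ = t * x := by rw [h.tt, mul_one]

/-- conjugation of `α_u α_v` by `t` -/
theorem conj_pair (h : Core K t z a ι y1 y2) {u v : G} (hu : IsZ K z u) (hv : IsZ K z v)
    (huV : u ∈ VV ι) (hvV : v ∈ VV ι) : t * (A u * A v) * t = A u * A v * (u * v) := by
  rw [tt_conj h, h.al_t hu, h.al_t hv]
  have := cV h hv hvV huV
  calc A u * u * (A v * v) = A u * (u * A v) * v := by group
    _ = A u * (A v * u) * v := by rw [this]
    _ = _ := by group

/-- `[α_u, α_v] ∈ V` -/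
theorem kap (h : Core K t z a ι y1 y2) {u v : G} (hu : IsZ K z u) (hv : IsZ K z v)
    (huV : u ∈ VV ι) (hvV : v ∈ VV ι) : A u * A v * (A u * A v) ∈ VV ι := by
  have hcV : ∀ x ∈ VV ι, x * (A u * A v) = A u * A v * x := by
    intro x hx
    calc x * (A u * A v) = (x * A u) * A v := by group
      _ = A u * (x * A v) := by rw [cV h hu huV hx]; group
      _ = _ := by rw [cV h hv hvV hx]; group
  have huv : u * v ∈ VV ι := (VV ι).mul_mem huV hvV
  have h1 : A u * A v * (A u * A v) * t = t * (A u * A v * (A u * A v)) := by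
    apply comm_of_conj h
    rw [tt_conj h, conj_pair h hu hv huV hvV]
    calc A u * A v * (u * v) * (A u * A v * (u * v))
        = A u * A v * ((u * v) * (A u * A v)) * (u * v) := by group
      _ = A u * A v * ((A u * A v) * (u * v)) * (u * v) := by rw [hcV _ huv]
      _ = A u * A v * (A u * A v) * ((u * v) * (u * v)) := by group
      _ = _ := by rw [VV_sq huv, mul_one]
  have h2 : ∀ x ∈ VV ι, A u * A v * (A u * A v) * x = x * (A u * A v * (A u * A v)) := by
    intro x hx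
    calc A u * A v * (A u * A v) * x = A u * A v * (A u * A v * x) := by group
      _ = A u * A v * (x * (A u * A v)) := by rw [hcV x hx]
      _ = (A u * A v * x) * (A u * A v) := by group
      _ = (x * (A u * A v)) * (A u * A v) := by rw [hcV x hx]
      _ = _ := by group
  rcases mem_or h h1 h2 with h3 | ⟨k, hk, h3⟩
  · exact h3
  exfalso
  have au := h.al_sq hu
  have av := h.al_sq hv
  -- `A v (AuAv)² A v = (AvAu)²`
  have e1 : A v * (A u * A v * (A u * A v)) * A v = A v * A u * (A v * A u) * (A v * A v) := by group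
  rw [av, mul_one, h3] at e1
  have e2 : A v * A u * (A v * A u) * (t * k) = 1 := by
    rw [← h3]
    calc A v * A u * (A v * A u) * (A u * A v * (A u * A v))
        = A v * A u * A v * (A u * A u) * A v * (A u * A v) := by group
      _ = A v * A u * (A v * A v) * (A u * A v) := by rw [au]; group
      _ = A v * (A u * A u) * A v := by rw [av]; group
      _ = 1 := by rw [au, mul_one, av]
  have e3 : A v * (t * k) * A v = t * (v * k) := by
    have h4 := h.al_t hv
    have h5 : A v * t = t * (A v * v) := by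
      calc A v * t = (t * t) * (A v * t) := by rw [h.tt, one_mul]
        _ = t * (t * A v * t) := by group
        _ = _ := by rw [h4]
    calc A v * (t * k) * A v = (A v * t) * k * A v := by group
      _ = t * (A v * v) * k * A v := by rw [h5]
      _ = t * A v * (v * k * A v) := by group
      _ = t * A v * (A v * (v * k)) := by
          rw [cV h hv hvV ((VV ι).mul_mem hvV hk)]
      _ = t * (A v * A v) * (v * k) := by group
      _ = _ := by rw [av, mul_one]
  rw [← e1, e3] at e2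
  have hkt := h.tK k (VV_le_K h hk)
  have hvt := h.tK v (VV_le_K h hvV)
  apply h.isZ_ne hv
  calc v = v * (k * k) := by rw [VV_sq hk, mul_one]
    _ = (v * k) * k := by group
    _ = (t * t) * (v * k) * k := by rw [h.tt, one_mul]
    _ = t * (t * (v * k)) * k := by group
    _ = t * ((v * k) * t) * k := by
        rw [← h.tK (v * k) (K.mul_mem (VV_le_K h hvV) (VV_le_K h hk))]
    _ = t * (v * k) * (t * k) := by group
    _ = 1 := e2

/-- the line through `u`, `v` -/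
theorem line (h : Core K t z a ι y1 y2) {u v : G} (hu : IsZ K z u) (hv : IsZ K z v)
    (huv : IsZ K z (u * v)) (huV : u ∈ VV ι) (hvV : v ∈ VV ι) :
    A u * A v * A (u * v) ∈ VV ι ∨ ∃ m ∈ VV ι, A u * A v * A (u * v) = t * m := by
  have hm : u * v ∈ VV ι := (VV ι).mul_mem huV hvV
  apply mem_or h
  · apply comm_of_conj h
    rw [tt_conj h, conj_pair h hu hv huV hvV, h.al_t huv]
    calc A u * A v * (u * v) * (A (u * v) * (u * v))
        = A u * A v * ((u * v) * A (u * v)) * (u * v) := by group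
      _ = A u * A v * (A (u * v) * (u * v)) * (u * v) := by rw [cV h huv hm hm]
      _ = A u * A v * A (u * v) * ((u * v) * (u * v)) := by group
      _ = _ := by rw [VV_sq hm, mul_one]
  · intro x hx
    calc A u * A v * A (u * v) * x = A u * A v * (A (u * v) * x) := by group
      _ = A u * A v * (x * A (u * v)) := by rw [cV h huv hm hx]
      _ = A u * (A v * x) * A (u * v) := by group
      _ = A u * (x * A v) * A (u * v) := by rw [cV h hv hvV hx]
      _ = (A u * x) * A v * A (u * v) := by group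
      _ = (x * A u) * A v * A (u * v) := by rw [cV h hu huV hx]
      _ = _ := by group

end Al

end Cfsg.Agent.OddHalf.UT5.VBase

end

-- merged: Cfsg.Agent.OddHalf.UT5.VPar
section

/-!
# ODD half, groups with Sylow 2-subgroup `UT(5, 2)`: the parity of the lines (helper83)
-/

set_option autoImplicit false
set_option linter.dupNamespace false

namespace Cfsg.Agent.OddHalf.UT5.VPar

open Cfsg.Agent.SporadicRecognition.HeldModel Cfsg.Agent.OddHalf.UT5.Model Cfsg.Agent.OddHalf.UT5.Core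
  Cfsg.Agent.OddHalf.UT5.Facts Cfsg.Agent.OddHalf.UT5.VBase

theorem rearr {M : Type*} [Group M] (f : Fin 3 → Fin 3 → M)
    (hc : ∀ i j k l, f i j * f k l = f k l * f i j) :
    (f 0 0 * f 0 1 * f 0 2) * (f 1 0 * f 1 1 * f 1 2) * (f 2 0 * f 2 1 * f 2 2) =
    (f 0 0 * f 1 0 * f 2 0) * (f 0 1 * f 1 1 * f 2 1) * (f 0 2 * f 1 2 * f 2 2) := by
  let k : Set M := Set.range fun p : Fin 3 × Fin 3 => f p.1 p.2
  have hk : ∀ x ∈ k, ∀ y ∈ k, x * y = y * x := by
    rintro _ ⟨p, rfl⟩ _ ⟨q, rfl⟩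
    exact hc _ _ _ _
  have hcm : IsMulCommutative (Subgroup.closure k) := Subgroup.isMulCommutative_closure hk
  let g : Fin 3 → Fin 3 → Subgroup.closure k := fun i j =>
    ⟨f i j, Subgroup.subset_closure ⟨(i, j), rfl⟩⟩
  have key : (g 0 0 * g 0 1 * g 0 2) * (g 1 0 * g 1 1 * g 1 2) * (g 2 0 * g 2 1 * g 2 2) =
    (g 0 0 * g 1 0 * g 2 0) * (g 0 1 * g 1 1 * g 2 1) * (g 0 2 * g 1 2 * g 2 2) := by ac_rfl
  exact congrArg Subtype.val key

theorem comm_of_sq {M : Type*} [Group M] {x y : M} (sx : x * x = 1) (sy : y * y = 1)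
    (h : x * y * (x * y) = 1) : x * y = y * x := by
  have h1 := eq_inv_of_mul_eq_one_left h
  rwa [mul_inv_rev, inv_eq_of_mul_eq_one_right sx, inv_eq_of_mul_eq_one_right sy] at h1

universe u

/-- the quotient by a subgroup `V` of its centralizer -/
theorem exists_quot {G : Type u} [Group G] (V : Subgroup G) (_hV : ∀ u ∈ V, ∀ v ∈ V, u * v = v * u) :
    ∃ (Q : Type u) (_ : Group Q) (F : G → Q),
      (∀ g g', (∀ v ∈ V, g * v = v * g) → (∀ v ∈ V, g' * v = v * g') → F (g * g') = F g * F g') ∧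
      ∀ g, (∀ v ∈ V, g * v = v * g) → (F g = 1 ↔ g ∈ V) := by
  classical
  let N : Subgroup G := Subgroup.centralizer (V : Set G)
  have hN : ∀ g, (∀ v ∈ V, g * v = v * g) → g ∈ N := fun g hg =>
    Subgroup.mem_centralizer_iff.2 fun v hv => (hg v hv).symm
  have hn : (V.subgroupOf N).Normal := by
    refine ⟨fun x hx g => ?_⟩
    have h1 := Subgroup.mem_centralizer_iff.1 g.2 x (Subgroup.mem_subgroupOf.1 hx)
    have : g * x * g⁻¹ = x := by
      apply Subtype.ext
      show (g : G) * x * (g : G)⁻¹ = x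
      rw [← h1]; group
    rw [this]; exact hx
  refine ⟨N ⧸ V.subgroupOf N, inferInstance,
    fun g => if hg : g ∈ N then QuotientGroup.mk ⟨g, hg⟩ else 1, ?_, ?_⟩
  · intro g g' hg hg'
    have h1 := hN g hg
    have h2 := hN g' hg'
    have h3 := N.mul_mem h1 h2
    simp only [dif_pos h1, dif_pos h2, dif_pos h3]
    rfl
  · intro g hg
    have h1 := hN g hg
    simp only [dif_pos h1]
    rw [QuotientGroup.eq_one_iff, Subgroup.mem_subgroupOf]

variable {G : Type*} [Group G] {K : Subgroup G} {t z a : G} {ι : CC →* G} {y1 y2 : G}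

/-- `u' = ω² u` -/
structure Om (ι : CC →* G) (y1 u u' : G) : Prop where
  uV : u ∈ VV ι
  uV' : u' ∈ VV ι
  o1 : y1⁻¹ * u' * y1 = u
  o2 : y1⁻¹ * u * y1 = u' * u

theorem Om.mul {u u' v v' : G} (hu : Om ι y1 u u') (hv : Om ι y1 v v') :
    Om ι y1 (u * v) (u' * v') where
  uV := (VV ι).mul_mem hu.uV hv.uV
  uV' := (VV ι).mul_mem hu.uV' hv.uV'
  o1 := by
    calc y1⁻¹ * (u' * v') * y1 = (y1⁻¹ * u' * y1) * (y1⁻¹ * v' * y1) := by group
      _ = _ := by rw [hu.o1, hv.o1]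
  o2 := by
    calc y1⁻¹ * (u * v) * y1 = (y1⁻¹ * u * y1) * (y1⁻¹ * v * y1) := by group
      _ = u' * (u * v') * v := by rw [hu.o2, hv.o2]; group
      _ = u' * (v' * u) * v := by rw [VV_comm hu.uV hv.uV']
      _ = _ := by group

theorem om_row (h : Core K t z a ι y1 y2) (i : Fin 5) (hi : i < 3) :
    Om ι y1 (ι (rt i 4)) (ι (rt i 3)) :=
  ⟨r_mem ι hi (by decide), r_mem ι hi (by decide), h.y1a i hi, h.y1b i hi⟩

/-- a good vector -/
structure Gd (K : Subgroup G) (z : G) (ι : CC →* G) (y1 u u' : G) : Prop extends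
    Om ι y1 u u' where
  k : ∃ k ∈ K, k * z * k⁻¹ = u ∧ k * ι (rt 0 3) * k⁻¹ = u'

theorem Gd.conj {u u' w w' : G} (hu : Gd K z ι y1 u u') (h : Core K t z a ι y1 y2) (c : CC)
    (hw : Om ι y1 w w') (e : ι c * u = w * ι c) (e' : ι c * u' = w' * ι c) : Gd K z ι y1 w w' := by
  obtain ⟨k, hk, h1, h2⟩ := hu.k
  refine ⟨hw, ι c * k, K.mul_mem (h.ιK c) hk, ?_, ?_⟩
  · calc ι c * k * z * (ι c * k)⁻¹ = ι c * (k * z * k⁻¹) * (ι c)⁻¹ := by group
      _ = w := by rw [h1, e]; group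
  · calc ι c * k * ι (rt 0 3) * (ι c * k)⁻¹ = ι c * (k * ι (rt 0 3) * k⁻¹) * (ι c)⁻¹ := by group
      _ = w' := by rw [h2, e']; group

theorem Gd.isZ {u u' : G} (hu : Gd K z ι y1 u u') : IsZ K z u := by
  obtain ⟨k, hk, h1, -⟩ := hu.k
  exact ⟨k, hk, h1⟩

theorem Gd.isZ1 {u u' : G} (h : Core K t z a ι y1 y2) (hu : Gd K z ι y1 u u') : IsZ K z (u' * u) := by
  rw [← hu.o2]
  have := Core.isZ_conj hu.isZ (K.inv_mem h.y1K)
  rwa [inv_inv] at this

theorem Om.e2 {u u' : G} (hu : Om ι y1 u u') : y1⁻¹ * (u' * u) * y1 = u' := by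
  calc y1⁻¹ * (u' * u) * y1 = (y1⁻¹ * u' * y1) * (y1⁻¹ * u * y1) := by group
    _ = (u * u') * u := by rw [hu.o1, hu.o2]; group
    _ = (u' * u) * u := by rw [VV_comm hu.uV hu.uV']
    _ = u' * (u * u) := by group
    _ = u' := by rw [VV_sq hu.uV, mul_one]

theorem Gd.isZ2 {u u' : G} (h : Core K t z a ι y1 y2) (hu : Gd K z ι y1 u u') : IsZ K z u' := by
  rw [← hu.toOm.e2]
  have := Core.isZ_conj (hu.isZ1 h) (K.inv_mem h.y1K)
  rwa [inv_inv] at this

section Al

local notation "A" => al K z a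

/-- the row of `u` -/
noncomputable def row (K : Subgroup G) (z a u u' : G) : G := al K z a u * al K z a (u' * u) * al K z a u'

theorem row_line {u u' : G} (h : Core K t z a ι y1 y2) (hu : Gd K z ι y1 u u') :
    row K z a u u' ∈ VV ι ∨ ∃ m ∈ VV ι, row K z a u u' = t * m := by
  have e : u * (u' * u) = u' := by
    calc u * (u' * u) = u * (u * u') := by rw [VV_comm hu.uV hu.uV']
      _ = (u * u) * u' := by group
      _ = u' := by rw [VV_sq hu.uV, one_mul]
  have h1 := line h hu.isZ (hu.isZ1 h) (by rw [e]; exact hu.isZ2 h) hu.uV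
    ((VV ι).mul_mem hu.uV' hu.uV)
  rw [e] at h1
  exact h1

theorem gd_z (h : Core K t z a ι y1 y2) : Gd K z ι y1 z (ι (rt 0 3)) := by
  have h1 := om_row h 0 (by decide)
  rw [z_eq h] at h1
  exact ⟨h1, 1, K.one_mem, by group, by group⟩

theorem t_tm {m : G} (h : Core K t z a ι y1 y2) (hm : m ∈ K) : t * m ∉ K := by
  intro h1
  apply t_notMem h
  have h2 := K.mul_mem h1 (K.inv_mem hm)
  have e : t * m * m⁻¹ = t := by group
  rwa [e] at h2

/-- all rows have the same parity -/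
theorem row_par {u u' : G} (h : Core K t z a ι y1 y2) (hu : Gd K z ι y1 u u') :
    row K z a u u' ∈ VV ι ↔ row K z a z (ι (rt 0 3)) ∈ VV ι := by
  obtain ⟨k, hk, h1, h2⟩ := hu.k
  have gz := gd_z h
  have e : row K z a u u' = k * row K z a z (ι (rt 0 3)) * k⁻¹ := by
    unfold row
    rw [← h1, ← h2]
    have e1 : k * ι (rt 0 3) * k⁻¹ * (k * z * k⁻¹) = k * (ι (rt 0 3) * z) * k⁻¹ := by group
    rw [e1, h.al_eqv gz.isZ hk, h.al_eqv (gz.isZ1 h) hk, h.al_eqv (gz.isZ2 h) hk]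
    group
  constructor
  · intro h3
    rcases row_line h gz with h4 | ⟨m, hm, h4⟩
    · exact h4
    exfalso
    have h5 := VV_le_K h h3
    rw [e, h4] at h5
    have h6 := K.mul_mem (K.mul_mem (K.inv_mem hk) h5) hk
    have e2 : k⁻¹ * (k * (t * m) * k⁻¹) * k = t * m := by group
    rw [e2] at h6
    exact t_tm h (VV_le_K h hm) h6
  · intro h3
    rcases row_line h hu with h4 | ⟨m, hm, h4⟩
    · exact h4
    exfalso
    have h5 : row K z a u u' ∈ K := by
      rw [e]; exact K.mul_mem (K.mul_mem hk (VV_le_K h h3)) (K.inv_mem hk)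
    rw [h4] at h5
    exact t_tm h (VV_le_K h hm) h5

theorem al_y1 {u w : G} (h : Core K t z a ι y1 y2) (hu : IsZ K z u) (e : y1⁻¹ * u * y1 = w) :
    A w = y1⁻¹ * A u * y1 := by
  rw [← e, h.al_eqv' hu h.y1K]

/-- **parity**: a line has the parity of the rows -/
theorem parity {u u' v v' : G} (h : Core K t z a ι y1 y2) (hu : Gd K z ι y1 u u')
    (hv : Gd K z ι y1 v v') (hw : Gd K z ι y1 (u * v) (u' * v')) :
    A u * A v * A (u * v) ∈ VV ι ↔ row K z a z (ι (rt 0 3)) ∈ VV ι := by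
  obtain ⟨Q, iQ, F, hF, hF1⟩ := exists_quot (VV ι) (fun u hu v hv => VV_comm hu hv)
  have cen : ∀ x, IsZ K z x → x ∈ VV ι → ∀ v ∈ VV ι, A x * v = v * A x := fun x hx hxV v hv =>
    (cV h hx hxV hv).symm
  have cmul : ∀ g g' : G, (∀ v ∈ VV ι, g * v = v * g) → (∀ v ∈ VV ι, g' * v = v * g') →
      ∀ v ∈ VV ι, g * g' * v = v * (g * g') := by
    intro g g' h1 h2 v hv
    calc g * g' * v = g * (g' * v) := by group
      _ = g * (v * g') := by rw [h2 v hv]
      _ = (g * v) * g' := by group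
      _ = (v * g) * g' := by rw [h1 v hv]
      _ = _ := by group
  have ct : ∀ v ∈ VV ι, t * v = v * t := fun v hv => (h.tK v (VV_le_K h hv)).symm
  have F3 : ∀ x y w, IsZ K z x → IsZ K z y → IsZ K z w → x ∈ VV ι → y ∈ VV ι → w ∈ VV ι →
      F (A x * A y * A w) = F (A x) * F (A y) * F (A w) := by
    intro x y w hx hy hw hxV hyV hwV
    rw [hF _ _ (cmul _ _ (cen x hx hxV) (cen y hy hyV)) (cen w hw hwV),
      hF _ _ (cen x hx hxV) (cen y hy hyV)]
  have Fone : F 1 = 1 := (hF1 1 (fun v _ => by group)).2 (VV ι).one_mem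
  have Fsq : ∀ x, IsZ K z x → x ∈ VV ι → F (A x) * F (A x) = 1 := by
    intro x hx hxV
    rw [← hF _ _ (cen x hx hxV) (cen x hx hxV), h.al_sq hx, Fone]
  have Fcomm : ∀ x y, IsZ K z x → IsZ K z y → x ∈ VV ι → y ∈ VV ι →
      F (A x) * F (A y) = F (A y) * F (A x) := by
    intro x y hx hy hxV hyV
    have h1 := kap h hx hy hxV hyV
    have h2 := cmul _ _ (cen x hx hxV) (cen y hy hyV)
    have h3 : F (A x) * F (A y) * (F (A x) * F (A y)) = 1 := by
      rw [← hF _ _ (cen x hx hxV) (cen y hy hyV), ← hF _ _ h2 h2]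
      exact (hF1 _ (cmul _ _ h2 h2)).2 h1
    have sx := Fsq x hx hxV
    have sy := Fsq y hy hyV
    exact comm_of_sq sx sy h3
  -- the elements of the array
  have uz := hu.isZ
  have uz1 := hu.isZ1 h
  have uz2 := hu.isZ2 h
  have vz := hv.isZ
  have vz1 := hv.isZ1 h
  have vz2 := hv.isZ2 h
  have wz := hw.isZ
  have wz1 := hw.isZ1 h
  have wz2 := hw.isZ2 h
  have uV := hu.uV
  have uV2 := hu.uV'
  have uV1 := (VV ι).mul_mem uV2 uV
  have vV := hv.uV
  have vV2 := hv.uV'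
  have vV1 := (VV ι).mul_mem vV2 vV
  have wV := hw.uV
  have wV2 := hw.uV'
  have wV1 := (VV ι).mul_mem wV2 wV
  have e1 : u' * v' * (u * v) = u' * u * (v' * v) := by
    calc u' * v' * (u * v) = u' * (v' * u) * v := by group
      _ = u' * (u * v') * v := by rw [VV_comm vV2 uV]
      _ = _ := by group
  let el : Fin 3 → Fin 3 → G := ![![u, u' * u, u'], ![v, v' * v, v'], ![u * v, u' * v' * (u * v), u' * v']]
  have elZ : ∀ i j, IsZ K z (el i j) ∧ el i j ∈ VV ι := by
    intro i j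
    fin_cases i <;> fin_cases j
    · exact ⟨uz, uV⟩
    · exact ⟨uz1, uV1⟩
    · exact ⟨uz2, uV2⟩
    · exact ⟨vz, vV⟩
    · exact ⟨vz1, vV1⟩
    · exact ⟨vz2, vV2⟩
    · exact ⟨wz, wV⟩
    · exact ⟨wz1, wV1⟩
    · exact ⟨wz2, wV2⟩
  have key := rearr (fun i j => F (A (el i j))) (fun i j k l =>
    Fcomm _ _ (elZ i j).1 (elZ k l).1 (elZ i j).2 (elZ k l).2)
  -- the columns
  have c0 := line h uz vz wz uV vV
  set C0 := A u * A v * A (u * v) with hC0
  have c1 : A (u' * u) * A (v' * v) * A (u' * v' * (u * v)) = y1⁻¹ * C0 * y1 := by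
    rw [al_y1 h uz hu.o2, al_y1 h vz hv.o2, al_y1 h wz hw.o2, hC0]
    group
  have c2 : A u' * A v' * A (u' * v') = y1⁻¹ * (y1⁻¹ * C0 * y1) * y1 := by
    rw [← c1, al_y1 h uz1 hu.toOm.e2, al_y1 h vz1 hv.toOm.e2, al_y1 h wz1 hw.toOm.e2]
    group
  have key2 : F (row K z a u u') * F (row K z a v v') * F (row K z a (u * v) (u' * v')) =
      F C0 * F (y1⁻¹ * C0 * y1) * F (y1⁻¹ * (y1⁻¹ * C0 * y1) * y1) := by
    rw [← c1] at c2
    rw [← c1, ← c2]
    unfold row
    rw [hC0, F3 _ _ _ uz uz1 uz2 uV uV1 uV2, F3 _ _ _ vz vz1 vz2 vV vV1 vV2,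
      F3 _ _ _ wz wz1 wz2 wV wV1 wV2, F3 _ _ _ uz vz wz uV vV wV,
      F3 _ _ _ uz1 vz1 wz1 uV1 vV1 wV1, F3 _ _ _ uz2 vz2 wz2 uV2 vV2 wV2]
    exact key
  have FV : ∀ m ∈ VV ι, F m = 1 := fun m hm => (hF1 m (fun v hv => VV_comm hm hv)).2 hm
  have Ftm : ∀ m ∈ VV ι, F (t * m) = F t := by
    intro m hm
    rw [hF _ _ ct (fun v hv => VV_comm hm hv), FV m hm, mul_one]
  have Ft2 : F t * F t = 1 := by rw [← hF _ _ ct ct, h.tt, Fone]
  have Ft : F t ≠ 1 := fun e => t_notMem h (VV_le_K h ((hF1 t ct).1 e))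
  have ct1 : ∀ m : G, y1⁻¹ * (t * m) * y1 = t * (y1⁻¹ * m * y1) := by
    intro m
    have h1 := h.tK _ (K.inv_mem h.y1K)
    calc y1⁻¹ * (t * m) * y1 = (y1⁻¹ * t) * m * y1 := by group
      _ = (t * y1⁻¹) * m * y1 := by rw [h1]
      _ = _ := by group
  have pu := row_par h hu
  have pv := row_par h hv
  have pw := row_par h hw
  constructor
  · intro hc
    by_contra hr
    have rowt : ∀ x x', Gd K z ι y1 x x' → (row K z a x x' ∈ VV ι ↔ row K z a z (ι (rt 0 3)) ∈ VV ι) →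
        F (row K z a x x') = F t := by
      intro x x' hx hp
      rcases row_line h hx with h1 | ⟨m, hm, h1⟩
      · exact absurd (hp.1 h1) hr
      · rw [h1, Ftm m hm]
    have h1 := y1_VV h hc
    rw [rowt u u' hu pu, rowt v v' hv pv, rowt _ _ hw pw, FV _ hc, FV _ h1, FV _ (y1_VV h h1)] at key2
    rw [Ft2, one_mul, one_mul, one_mul] at key2
    exact Ft key2
  · intro hr
    rcases c0 with h1 | ⟨m, hm, h1⟩
    · exact h1
    exfalso
    have hm1 := y1_VV h hm
    rw [FV _ (pu.2 hr), FV _ (pv.2 hr), FV _ (pw.2 hr), h1, ct1, ct1, Ftm _ hm, Ftm _ hm1,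
      Ftm _ (y1_VV h hm1), Ft2, one_mul, one_mul, one_mul] at key2
    exact Ft key2.symm

end Al

end Cfsg.Agent.OddHalf.UT5.VPar

end

-- merged: Cfsg.Agent.OddHalf.UT5.V2
section

/-!
# ODD half, groups with Sylow 2-subgroup `UT(5, 2)`: step (3) for `V2` (helper83)
-/

set_option autoImplicit false
set_option linter.dupNamespace false

namespace Cfsg.Agent.OddHalf.UT5.V2

open Cfsg.Agent.SporadicRecognition.HeldModel Cfsg.Agent.OddHalf.UT5.Model Cfsg.Agent.OddHalf.UT5.Core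
  Cfsg.Agent.OddHalf.UT5.Facts Cfsg.Agent.OddHalf.UT5.VBase Cfsg.Agent.OddHalf.UT5.VPar

variable {G : Type*} [Group G] {K : Subgroup G} {t z a : G} {ι : CC →* G} {y1 y2 : G}

/-- words in `G` -/
theorem ιw (ι : CC →* G) (l m : List (Fin 5 × Fin 5)) (h : Nat.beq (cpr l) (cpr m) = true) :
    (l.map fun p => ι (rt p.1 p.2)).prod = (m.map fun p => ι (rt p.1 p.2)).prod := by
  have e : ∀ l : List (Fin 5 × Fin 5), ι (pr l) = (l.map fun p => ι (rt p.1 p.2)).prod := by
    intro l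
    induction l with
    | nil => rw [pr_nil, map_one]; rfl
    | cons p l ih => rw [pr_cons, map_mul, ih, List.map_cons, List.prod_cons]
  rw [← e, ← e, pr_eq h]

theorem ιpr (ι : CC →* G) (l : List (Fin 5 × Fin 5)) :
    ι (pr l) = (l.map fun p => ι (rt p.1 p.2)).prod := by
  induction l with
  | nil => rw [pr_nil, map_one]; rfl
  | cons p l ih => rw [pr_cons, map_mul, ih, List.map_cons, List.prod_cons]

local notation "r[" i "," j "]" => ι (rt i j)

/-! ### the good vectors in `⟨x04, x14, x24⟩` -/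

theorem gd04 (h : Core K t z a ι y1 y2) : Gd K z ι y1 (ι (rt 0 4)) (ι (rt 0 3)) := by
  rw [z_eq h]; exact gd_z h

theorem gd14 (h : Core K t z a ι y1 y2) : Gd K z ι y1 (ι (rt 1 4)) (ι (rt 1 3)) := by
  refine ⟨om_row h 1 (by decide), y2, h.y2K, ?_, ?_⟩
  · rw [← z_eq h, ← h.y2a 4 (by decide)]; group
  · rw [← h.y2a 3 (by decide)]; group

theorem gd1404 (h : Core K t z a ι y1 y2) :
    Gd K z ι y1 (ι (rt 1 4) * ι (rt 0 4)) (ι (rt 1 3) * ι (rt 0 3)) := by
  refine (gd14 h).conj h (pr [(0, 1)]) ((gd14 h).toOm.mul (gd04 h).toOm) ?_ ?_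
  · simpa only [ιpr, List.map_cons, List.map_nil, List.prod_cons, List.prod_nil, mul_one, mul_assoc]
      using ιw ι [(0, 1), (1, 4)] [(1, 4), (0, 4), (0, 1)] (by decide +kernel)
  · simpa only [ιpr, List.map_cons, List.map_nil, List.prod_cons, List.prod_nil, mul_one, mul_assoc]
      using ιw ι [(0, 1), (1, 3)] [(1, 3), (0, 3), (0, 1)] (by decide +kernel)

theorem gd24 (h : Core K t z a ι y1 y2) : Gd K z ι y1 (ι (rt 2 4)) (ι (rt 2 3)) := by
  refine (gd14 h).conj h (pr [(1, 2), (2, 1), (1, 2)]) (om_row h 2 (by decide)) ?_ ?_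
  · simpa only [ιpr, List.map_cons, List.map_nil, List.prod_cons, List.prod_nil, mul_one, mul_assoc]
      using ιw ι [(1, 2), (2, 1), (1, 2), (1, 4)] [(2, 4), (1, 2), (2, 1), (1, 2)] (by decide +kernel)
  · simpa only [ιpr, List.map_cons, List.map_nil, List.prod_cons, List.prod_nil, mul_one, mul_assoc]
      using ιw ι [(1, 2), (2, 1), (1, 2), (1, 3)] [(2, 3), (1, 2), (2, 1), (1, 2)] (by decide +kernel)

theorem gd2404 (h : Core K t z a ι y1 y2) :
    Gd K z ι y1 (ι (rt 2 4) * ι (rt 0 4)) (ι (rt 2 3) * ι (rt 0 3)) := by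
  refine (gd24 h).conj h (pr [(0, 2)]) ((gd24 h).toOm.mul (gd04 h).toOm) ?_ ?_
  · simpa only [ιpr, List.map_cons, List.map_nil, List.prod_cons, List.prod_nil, mul_one, mul_assoc]
      using ιw ι [(0, 2), (2, 4)] [(2, 4), (0, 4), (0, 2)] (by decide +kernel)
  · simpa only [ιpr, List.map_cons, List.map_nil, List.prod_cons, List.prod_nil, mul_one, mul_assoc]
      using ιw ι [(0, 2), (2, 3)] [(2, 3), (0, 3), (0, 2)] (by decide +kernel)

theorem gd2414 (h : Core K t z a ι y1 y2) :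
    Gd K z ι y1 (ι (rt 2 4) * ι (rt 1 4)) (ι (rt 2 3) * ι (rt 1 3)) := by
  refine (gd24 h).conj h (pr [(1, 2)]) ((gd24 h).toOm.mul (gd14 h).toOm) ?_ ?_
  · simpa only [ιpr, List.map_cons, List.map_nil, List.prod_cons, List.prod_nil, mul_one, mul_assoc]
      using ιw ι [(1, 2), (2, 4)] [(2, 4), (1, 4), (1, 2)] (by decide +kernel)
  · simpa only [ιpr, List.map_cons, List.map_nil, List.prod_cons, List.prod_nil, mul_one, mul_assoc]
      using ιw ι [(1, 2), (2, 3)] [(2, 3), (1, 3), (1, 2)] (by decide +kernel)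

theorem gd241404 (h : Core K t z a ι y1 y2) :
    Gd K z ι y1 (ι (rt 2 4) * ι (rt 1 4) * ι (rt 0 4)) (ι (rt 2 3) * ι (rt 1 3) * ι (rt 0 3)) := by
  refine (gd2414 h).conj h (pr [(0, 2)]) ((gd2414 h).toOm.mul (gd04 h).toOm) ?_ ?_
  · simpa only [ιpr, List.map_cons, List.map_nil, List.prod_cons, List.prod_nil, mul_one, mul_assoc]
      using ιw ι [(0, 2), (2, 4), (1, 4)] [(2, 4), (1, 4), (0, 4), (0, 2)] (by decide +kernel)
  · simpa only [ιpr, List.map_cons, List.map_nil, List.prod_cons, List.prod_nil, mul_one, mul_assoc]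
      using ιw ι [(0, 2), (2, 3), (1, 3)] [(2, 3), (1, 3), (0, 3), (0, 2)] (by decide +kernel)

/-! ### elements of `V` as words -/

theorem VV_word (h : Core K t z a ι y1 y2) {v : G} (hv : v ∈ VV ι) :
    ∃ w ∈ subs [(0, 3), (0, 4), (1, 3), (1, 4), (2, 3), (2, 4)], v = ι (pr w) := by
  obtain ⟨c, hc⟩ := h.cK v (VV_le_K h hv) (VV_comm hv (z_mem h))
  have key : ∀ i : Fin 5, i < 3 → c * rt i 3 = rt i 3 * c := by
    intro i hi
    apply h.inj
    rw [map_mul, map_mul, hc]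
    exact VV_comm hv (r_mem ι hi (by decide))
  obtain ⟨w, hw, e⟩ := cV2 c (by
    intro p hp
    simp only [List.mem_cons, List.mem_nil_iff, or_false] at hp
    rcases hp with rfl | rfl
    · exact key 1 (by decide)
    · exact key 2 (by decide))
  exact ⟨w, hw, by rw [← hc, e]⟩

/-- a family with the formal properties of `α` and of `t α` -/
structure Fm (K : Subgroup G) (z : G) (ι : CC →* G) (f : G → G) : Prop where
  eqv : ∀ u k, IsZ K z u → k ∈ K → f (k * u * k⁻¹) = k * f u * k⁻¹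
  cen : ∀ u k, IsZ K z u → k ∈ K → k * u = u * k → k * f u = f u * k

theorem Fm.eqv' {f : G → G} (F : Fm K z ι f) {u k : G} (hu : IsZ K z u) (hk : k ∈ K) :
    f (k⁻¹ * u * k) = k⁻¹ * f u * k := by
  have := F.eqv u k⁻¹ hu (K.inv_mem hk)
  rwa [inv_inv] at this

theorem fm_al (h : Core K t z a ι y1 y2) : Fm K z ι (al K z a) :=
  ⟨fun _ _ hu hk => h.al_eqv hu hk, fun _ _ hu hk hc => h.al_comm hu hk hc⟩

theorem fm_tal (h : Core K t z a ι y1 y2) : Fm K z ι (fun u => t * al K z a u) := by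
  refine ⟨?_, ?_⟩
  · intro u k hu hk
    show t * al K z a (k * u * k⁻¹) = k * (t * al K z a u) * k⁻¹
    rw [h.al_eqv hu hk]
    calc t * (k * al K z a u * k⁻¹) = (t * k) * al K z a u * k⁻¹ := by group
      _ = (k * t) * al K z a u * k⁻¹ := by rw [h.tK k hk]
      _ = _ := by group
  · intro u k hu hk hc
    show k * (t * al K z a u) = t * al K z a u * k
    calc k * (t * al K z a u) = (k * t) * al K z a u := by group
      _ = t * (k * al K z a u) := by rw [h.tK k hk]; group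
      _ = _ := by rw [h.al_comm hu hk hc]; group

/-- the line `z, x14` -/
theorem eline (h : Core K t z a ι y1 y2) {f : G → G} (F : Fm K z ι f)
    (hV : f (ι (rt 1 4)) * f (ι (rt 0 4)) * f (ι (rt 1 4) * ι (rt 0 4)) ∈ VV ι) :
    f (ι (rt 1 4)) * f (ι (rt 0 4)) * f (ι (rt 1 4) * ι (rt 0 4)) = 1 := by
  have g14 := gd14 h
  have g04 := gd04 h
  have g1404 := gd1404 h
  have a1 := h.y2a 4 (by decide)
  have a2 := h.y2b 4 (by decide)
  have c41 := VV_comm g04.uV g14.uV
  have s04 := VV_sq g04.uV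
  have e3 : y2⁻¹ * (ι (rt 1 4) * ι (rt 0 4)) * y2 = ι (rt 1 4) := by
    calc y2⁻¹ * (ι (rt 1 4) * ι (rt 0 4)) * y2 = (y2⁻¹ * ι (rt 1 4) * y2) * (y2⁻¹ * ι (rt 0 4) * y2) := by
          group
      _ = ι (rt 0 4) * (ι (rt 1 4) * ι (rt 0 4)) := by rw [a1, a2]
      _ = (ι (rt 0 4) * ι (rt 1 4)) * ι (rt 0 4) := by group
      _ = ι (rt 1 4) * (ι (rt 0 4) * ι (rt 0 4)) := by rw [c41]; group
      _ = ι (rt 1 4) := by rw [s04, mul_one]
  set P := f (ι (rt 1 4)) * f (ι (rt 0 4)) * f (ι (rt 1 4) * ι (rt 0 4)) with hP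
  -- `P` commutes with `f x14`
  have hPc : P * f (ι (rt 1 4)) = f (ι (rt 1 4)) * P :=
    F.cen _ _ g14.isZ (VV_le_K h hV) (VV_comm hV g14.uV)
  have hPy : y2⁻¹ * P * y2 = P := by
    have f1 := F.eqv' g14.isZ h.y2K
    have f2 := F.eqv' g04.isZ h.y2K
    have f3 := F.eqv' g1404.isZ h.y2K
    rw [a1] at f1
    rw [a2] at f2
    rw [e3] at f3
    have e4 : y2⁻¹ * P * y2 = f (ι (rt 0 4)) * f (ι (rt 1 4) * ι (rt 0 4)) * f (ι (rt 1 4)) := by
      calc y2⁻¹ * P * y2 = (y2⁻¹ * f (ι (rt 1 4)) * y2) * (y2⁻¹ * f (ι (rt 0 4)) * y2) *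
            (y2⁻¹ * f (ι (rt 1 4) * ι (rt 0 4)) * y2) := by rw [hP]; group
        _ = _ := by rw [← f1, ← f2, ← f3]
    rw [e4]
    calc f (ι (rt 0 4)) * f (ι (rt 1 4) * ι (rt 0 4)) * f (ι (rt 1 4))
        = (f (ι (rt 1 4)))⁻¹ * (P * f (ι (rt 1 4))) := by rw [hP]; group
      _ = P := by rw [hPc]; group
  -- `P` is a word in `x04`, `x14`
  obtain ⟨w, -, hw⟩ := VV_word h hV
  have hcen : ∀ i j : Fin 5, j ≠ 1 → (4 : Fin 5) ≠ i → j ≠ 0 →
      (ι (rt i j)) * P = P * ι (rt i j) := by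
    intro i j hj hi hj0
    have k1 : ι (rt i j) * ι (rt 1 4) = ι (rt 1 4) * ι (rt i j) := by
      rw [← map_mul, ← map_mul, rt_comm i j 1 4 hj hi]
    have k2 : ι (rt i j) * ι (rt 0 4) = ι (rt 0 4) * ι (rt i j) := by
      rw [← map_mul, ← map_mul, rt_comm i j 0 4 hj0 hi]
    have k3 : ι (rt i j) * (ι (rt 1 4) * ι (rt 0 4)) = ι (rt 1 4) * ι (rt 0 4) * ι (rt i j) := by
      calc ι (rt i j) * (ι (rt 1 4) * ι (rt 0 4)) = (ι (rt i j) * ι (rt 1 4)) * ι (rt 0 4) := by group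
        _ = ι (rt 1 4) * (ι (rt i j) * ι (rt 0 4)) := by rw [k1]; group
        _ = _ := by rw [k2]; group
    have l1 := F.cen _ _ g14.isZ (h.ιK (rt i j)) k1
    have l2 := F.cen _ _ g04.isZ (h.ιK (rt i j)) k2
    have l3 := F.cen _ _ g1404.isZ (h.ιK (rt i j)) k3
    rw [hP]
    calc ι (rt i j) * (f (ι (rt 1 4)) * f (ι (rt 0 4)) * f (ι (rt 1 4) * ι (rt 0 4)))
        = (ι (rt i j) * f (ι (rt 1 4))) * f (ι (rt 0 4)) * f (ι (rt 1 4) * ι (rt 0 4)) := by group
      _ = f (ι (rt 1 4)) * (ι (rt i j) * f (ι (rt 0 4))) * f (ι (rt 1 4) * ι (rt 0 4)) := by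
          rw [l1]; group
      _ = f (ι (rt 1 4)) * f (ι (rt 0 4)) * (ι (rt i j) * f (ι (rt 1 4) * ι (rt 0 4))) := by
          rw [l2]; group
      _ = _ := by rw [l3]; group
  have hcc : ∀ p ∈ ([(1, 2), (2, 3), (3, 2)] : List (Fin 5 × Fin 5)),
      pr w * rt p.1 p.2 = rt p.1 p.2 * pr w := by
    intro p hp
    apply h.inj
    rw [map_mul, map_mul, ← hw]
    simp only [List.mem_cons, List.mem_nil_iff, or_false] at hp
    rcases hp with rfl | rfl | rfl
    · exact (hcen 1 2 (by decide) (by decide) (by decide)).symm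
    · exact (hcen 2 3 (by decide) (by decide) (by decide)).symm
    · exact (hcen 3 2 (by decide) (by decide) (by decide)).symm
  obtain ⟨w', hw', e'⟩ := c14 _ hcc
  rw [e'] at hw
  have n0414 : ι (rt 0 4) ≠ ι (rt 1 4) := by
    intro e
    have h1 := congrArg (fun c : CC => cd (c : L5)) (h.inj e)
    simp only [cd_rt] at h1
    revert h1; decide +kernel
  have n04 : ι (rt 0 4) ≠ 1 := h.isZ_ne g04.isZ
  have n14 : ι (rt 1 4) ≠ 1 := h.isZ_ne g14.isZ
  simp only [subs, List.map_cons, List.map_nil, List.cons_append, List.nil_append, List.mem_cons,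
    List.mem_nil_iff, or_false] at hw'
  rcases hw' with rfl | rfl | rfl | rfl
  · rw [hw, pr_nil, map_one]
  · exfalso
    have e5 : P = ι (rt 1 4) := by rw [hw, pr_cons, pr_nil, mul_one]
    rw [e5, a1] at hPy
    exact n0414 hPy
  · exfalso
    have e5 : P = ι (rt 0 4) := by rw [hw, pr_cons, pr_nil, mul_one]
    rw [e5, a2] at hPy
    exact n14 (mul_eq_right.1 hPy)
  · exfalso
    have e5 : P = ι (rt 1 4) * ι (rt 0 4) := by
      rw [hw, pr_cons, pr_cons, pr_nil, mul_one, map_mul, c41]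
    rw [e5, e3] at hPy
    exact n04 (mul_eq_left.1 hPy.symm)


theorem cen3 {f : G → G} (F : Fm K z ι f) {u v w k : G} (hu : IsZ K z u) (hv : IsZ K z v)
    (hw : IsZ K z w) (hk : k ∈ K) (k1 : k * u = u * k) (k2 : k * v = v * k) (k3 : k * w = w * k) :
    k * (f u * f v * f w) = f u * f v * f w * k := by
  have l1 := F.cen _ _ hu hk k1
  have l2 := F.cen _ _ hv hk k2
  have l3 := F.cen _ _ hw hk k3
  calc k * (f u * f v * f w) = (k * f u) * f v * f w := by group
    _ = f u * (k * f v) * f w := by rw [l1]; group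
    _ = f u * f v * (k * f w) := by rw [l2]; group
    _ = _ := by rw [l3]; group

/-- the line `x24, x14` -/
theorem l2414 (h : Core K t z a ι y1 y2) {f : G → G} (F : Fm K z ι f)
    (hV : f (ι (rt 2 4)) * f (ι (rt 1 4)) * f (ι (rt 2 4) * ι (rt 1 4)) ∈ VV ι) :
    f (ι (rt 2 4)) * f (ι (rt 1 4)) * f (ι (rt 2 4) * ι (rt 1 4)) = 1 ∨
    f (ι (rt 2 4)) * f (ι (rt 1 4)) * f (ι (rt 2 4) * ι (rt 1 4)) = z := by
  have g14 := gd14 h
  have g24 := gd24 h
  have g2414 := gd2414 h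
  set P := f (ι (rt 2 4)) * f (ι (rt 1 4)) * f (ι (rt 2 4) * ι (rt 1 4)) with hP
  have hP4 : P * f (ι (rt 2 4)) = f (ι (rt 2 4)) * P :=
    F.cen _ _ g24.isZ (VV_le_K h hV) (VV_comm hV g24.uV)
  have hP1 : P * f (ι (rt 1 4)) = f (ι (rt 1 4)) * P :=
    F.cen _ _ g14.isZ (VV_le_K h hV) (VV_comm hV g14.uV)
  -- the 3-cycle
  have r1 : ι (pr [(1, 2), (2, 1)]) * ι (rt 1 4) * (ι (pr [(1, 2), (2, 1)]))⁻¹ = ι (rt 2 4) := by
    rw [mul_inv_eq_iff_eq_mul]
    simpa only [ιpr, List.map_cons, List.map_nil, List.prod_cons, List.prod_nil, mul_one, mul_assoc]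
      using ιw ι [(1, 2), (2, 1), (1, 4)] [(2, 4), (1, 2), (2, 1)] (by decide +kernel)
  have r2 : ι (pr [(1, 2), (2, 1)]) * ι (rt 2 4) * (ι (pr [(1, 2), (2, 1)]))⁻¹ =
      ι (rt 2 4) * ι (rt 1 4) := by
    rw [mul_inv_eq_iff_eq_mul]
    simpa only [ιpr, List.map_cons, List.map_nil, List.prod_cons, List.prod_nil, mul_one, mul_assoc]
      using ιw ι [(1, 2), (2, 1), (2, 4)] [(2, 4), (1, 4), (1, 2), (2, 1)] (by decide +kernel)
  have r3 : ι (pr [(1, 2), (2, 1)]) * (ι (rt 2 4) * ι (rt 1 4)) * (ι (pr [(1, 2), (2, 1)]))⁻¹ =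
      ι (rt 1 4) := by
    rw [mul_inv_eq_iff_eq_mul]
    simpa only [ιpr, List.map_cons, List.map_nil, List.prod_cons, List.prod_nil, mul_one, mul_assoc]
      using ιw ι [(1, 2), (2, 1), (2, 4), (1, 4)] [(1, 4), (1, 2), (2, 1)] (by decide +kernel)
  have hcK := h.ιK (pr [(1, 2), (2, 1)])
  have hPr : ι (pr [(1, 2), (2, 1)]) * P * (ι (pr [(1, 2), (2, 1)]))⁻¹ = P := by
    have f1 := F.eqv _ _ g24.isZ hcK
    have f2 := F.eqv _ _ g14.isZ hcK
    have f3 := F.eqv _ _ g2414.isZ hcK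
    rw [r2] at f1
    rw [r1] at f2
    rw [r3] at f3
    have e4 : ι (pr [(1, 2), (2, 1)]) * P * (ι (pr [(1, 2), (2, 1)]))⁻¹ =
        f (ι (rt 2 4) * ι (rt 1 4)) * f (ι (rt 2 4)) * f (ι (rt 1 4)) := by
      calc ι (pr [(1, 2), (2, 1)]) * P * (ι (pr [(1, 2), (2, 1)]))⁻¹
          = (ι (pr [(1, 2), (2, 1)]) * f (ι (rt 2 4)) * (ι (pr [(1, 2), (2, 1)]))⁻¹) *
            (ι (pr [(1, 2), (2, 1)]) * f (ι (rt 1 4)) * (ι (pr [(1, 2), (2, 1)]))⁻¹) *
            (ι (pr [(1, 2), (2, 1)]) * f (ι (rt 2 4) * ι (rt 1 4)) *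
              (ι (pr [(1, 2), (2, 1)]))⁻¹) := by rw [hP]; group
        _ = _ := by rw [← f1, ← f2, ← f3]
    rw [e4]
    calc f (ι (rt 2 4) * ι (rt 1 4)) * f (ι (rt 2 4)) * f (ι (rt 1 4))
        = (f (ι (rt 1 4)))⁻¹ * (f (ι (rt 2 4)))⁻¹ * (P * f (ι (rt 2 4))) * f (ι (rt 1 4)) := by
          rw [hP]; group
      _ = (f (ι (rt 1 4)))⁻¹ * (P * f (ι (rt 1 4))) := by rw [hP4]; group
      _ = P := by rw [hP1]; group
  obtain ⟨w, -, hw⟩ := VV_word h hV
  have hcen : ∀ i j : Fin 5, j ≠ 1 → (4 : Fin 5) ≠ i → j ≠ 2 →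
      (ι (rt i j)) * P = P * ι (rt i j) := by
    intro i j hj hi hj0
    have k1 : ι (rt i j) * ι (rt 1 4) = ι (rt 1 4) * ι (rt i j) := by
      rw [← map_mul, ← map_mul, rt_comm i j 1 4 hj hi]
    have k2 : ι (rt i j) * ι (rt 2 4) = ι (rt 2 4) * ι (rt i j) := by
      rw [← map_mul, ← map_mul, rt_comm i j 2 4 hj0 hi]
    have k3 : ι (rt i j) * (ι (rt 2 4) * ι (rt 1 4)) = ι (rt 2 4) * ι (rt 1 4) * ι (rt i j) := by
      calc ι (rt i j) * (ι (rt 2 4) * ι (rt 1 4)) = (ι (rt i j) * ι (rt 2 4)) * ι (rt 1 4) := by group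
        _ = ι (rt 2 4) * (ι (rt i j) * ι (rt 1 4)) := by rw [k2]; group
        _ = _ := by rw [k1]; group
    exact cen3 F g24.isZ g14.isZ g2414.isZ (h.ιK (rt i j)) k2 k1 k3
  have hcc : ∀ p ∈ ([(1, 3), (2, 3), (3, 4)] : List (Fin 5 × Fin 5)),
      pr w * rt p.1 p.2 = rt p.1 p.2 * pr w := by
    intro p hp
    apply h.inj
    rw [map_mul, map_mul, ← hw]
    simp only [List.mem_cons, List.mem_nil_iff, or_false] at hp
    rcases hp with rfl | rfl | rfl
    · exact (hcen 1 3 (by decide) (by decide) (by decide)).symm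
    · exact (hcen 2 3 (by decide) (by decide) (by decide)).symm
    · exact (hcen 3 4 (by decide) (by decide) (by decide)).symm
  obtain ⟨w', hw', e'⟩ := c24 _ hcc
  rw [e'] at hw
  have key : cpr ([(1, 2), (2, 1)] ++ w') = cpr (w' ++ [(1, 2), (2, 1)]) := by
    rw [← cd_pr, ← cd_pr]
    congr 2
    apply h.inj
    rw [pr_append, pr_append, map_mul, map_mul, ← hw]
    rwa [mul_inv_eq_iff_eq_mul] at hPr
  have dec : ∀ w' ∈ subs [(0, 4), (1, 4), (2, 4)],
      cpr ([(1, 2), (2, 1)] ++ w') = cpr (w' ++ [(1, 2), (2, 1)]) → w' = [] ∨ w' = [(0, 4)] := by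
    decide +kernel
  rcases dec w' hw' key with rfl | rfl
  · left; rw [hw, pr_nil, map_one]
  · right; rw [hw, pr_cons, pr_nil, mul_one, z_eq h]


/-! ### the rows lie in `V` -/

section Al

local notation "A" => al K z a

/-- if the rows do not lie in `V`, then the lines of the elements `t α_u` do -/
theorem tline {u u' v v' : G} (h : Core K t z a ι y1 y2) (hr : row K z a z (ι (rt 0 3)) ∉ VV ι)
    (hu : Gd K z ι y1 u u') (hv : Gd K z ι y1 v v') (hw : Gd K z ι y1 (u * v) (u' * v')) :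
    (t * A u) * (t * A v) * (t * A (u * v)) ∈ VV ι := by
  have hp := parity h hu hv hw
  rcases line h hu.isZ hv.isZ hw.isZ hu.uV hv.uV with h1 | ⟨m, hm, h1⟩
  · exact absurd (hp.1 h1) hr
  have e1 := h.al_t hu.isZ
  have e2 := conj_pair h hu.isZ hv.isZ hu.uV hv.uV
  have e3 : A u * A v * t = t * (A u * A v * (u * v)) := by
    rw [← e2]
    calc A u * A v * t = (t * t) * (A u * A v) * t := by rw [h.tt, one_mul]
      _ = _ := by group
  have e4 := cV h hv.isZ hv.uV hu.uV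
  have e5 := cV h hw.isZ hw.uV hv.uV
  have e6 : (t * A u) * (t * A v) * (t * A (u * v)) = m * v := by
    calc (t * A u) * (t * A v) * (t * A (u * v)) = (t * A u * t) * A v * t * A (u * v) := by group
      _ = A u * (u * A v) * t * A (u * v) := by rw [e1]; group
      _ = A u * A v * (u * t) * A (u * v) := by rw [e4]; group
      _ = (A u * A v * t) * u * A (u * v) := by rw [h.tK u (VV_le_K h hu.uV)]; group
      _ = t * (A u * A v) * (u * (v * u)) * A (u * v) := by rw [e3]; group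
      _ = t * (A u * A v) * ((u * u) * v) * A (u * v) := by rw [VV_comm hv.uV hu.uV]; group
      _ = t * (A u * A v) * (v * A (u * v)) := by rw [VV_sq hu.uV]; group
      _ = t * (A u * A v * A (u * v)) * v := by rw [e5]; group
      _ = t * (t * m) * v := by rw [h1]
      _ = (t * t) * m * v := by group
      _ = m * v := by rw [h.tt, one_mul]
  rw [e6]
  exact (VV ι).mul_mem hm hv.uV

theorem tsq {u : G} (h : Core K t z a ι y1 y2) (hu : IsZ K z u) : (t * A u) * (t * A u) = u := by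
  have e1 := h.al_t hu
  have e2 := h.al_sq hu
  have e3 := h.al_u hu
  calc (t * A u) * (t * A u) = (t * A u * t) * A u := by group
    _ = A u * (u * A u) := by rw [e1]; group
    _ = (A u * A u) * u := by rw [e3]; group
    _ = u := by rw [e2, one_mul]

/-- then the elements `t α_u` commute -/
theorem tcomm {u u' v v' : G} (h : Core K t z a ι y1 y2) (hr : row K z a z (ι (rt 0 3)) ∉ VV ι)
    (hu : Gd K z ι y1 u u') (hv : Gd K z ι y1 v v') (hw : Gd K z ι y1 (u * v) (u' * v')) :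
    (t * A u) * (t * A v) = (t * A v) * (t * A u) := by
  have h1 := tline h hr hu hv hw
  have su := tsq h hu.isZ
  have sv := tsq h hv.isZ
  have sw := tsq h hw.isZ
  have cw : ∀ x ∈ VV ι, x * (t * A (u * v)) = t * A (u * v) * x := fun x hx =>
    (fm_tal h).cen _ _ hw.isZ (VV_le_K h hx) (VV_comm hx hw.uV)
  have cu : v * (t * A u) = t * A u * v :=
    (fm_tal h).cen _ _ hu.isZ (VV_le_K h hv.uV) (VV_comm hv.uV hu.uV)
  generalize t * A (u * v) = r at *
  generalize t * A u = p at *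
  generalize t * A v = q at *
  have s1 := VV_sq h1
  have s2 := cw _ h1
  -- `(p q)² = u v`
  have e1 : p * q * r * (p * q * r) = 1 := s1
  have e2 : p * q * (p * q) * (r * r) = 1 := by
    calc p * q * (p * q) * (r * r) = p * q * (p * q * r) * r := by group
      _ = p * q * (p * q * r * r) := by group
      _ = p * q * (r * (p * q * r)) := by rw [s2]
      _ = 1 := by rw [← e1]; group
  rw [sw] at e2
  have e3 : p * q * (p * q) = u * v := by
    have := eq_inv_of_mul_eq_one_left e2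
    rwa [VV_inv ((VV ι).mul_mem hu.uV hv.uV)] at this
  have e4 : p * (q * p) * q = p * (p * q) * q := by
    calc p * (q * p) * q = p * q * (p * q) := by group
      _ = u * v := e3
      _ = v * u := VV_comm hu.uV hv.uV
      _ = v * (p * p) := by rw [su]
      _ = (v * p) * p := by group
      _ = p * p * v := by rw [cu, mul_assoc, cu, ← mul_assoc]
      _ = p * p * (q * q) := by rw [sv]
      _ = _ := by group
  exact (mul_left_cancel (mul_right_cancel e4)).symm

/-- **the rows lie in `V`** -/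
theorem row_mem (h : Core K t z a ι y1 y2) : row K z a z (ι (rt 0 3)) ∈ VV ι := by
  by_contra hr
  have F := fm_tal h
  have g04 := gd04 h
  have g14 := gd14 h
  have g1404 := gd1404 h
  have g24 := gd24 h
  have g2404 := gd2404 h
  have g2414 := gd2414 h
  have g241404 := gd241404 h
  -- the line `z, x14`
  have l1 := eline h F (tline h hr g14 g04 g1404)
  have c14 := tcomm h hr g14 g04 g1404
  have c24 := tcomm h hr g24 g04 g2404
  have c21 := tcomm h hr g24 g14 g2414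
  have c214 := tcomm h hr g2414 g04 g241404
  have s04 := tsq h g04.isZ
  have s14 := tsq h g14.isZ
  have hm := tline h hr g24 g14 g2414
  -- conjugates
  have r1 : ∀ (w : List (Fin 5 × Fin 5)) (x : G), ι (pr w) * ι (rt 1 4) * (ι (pr w))⁻¹ = x →
      ι (pr w) * ι (rt 0 4) * (ι (pr w))⁻¹ = ι (rt 0 4) →
      t * A x * (t * A (ι (rt 0 4))) * (t * A (x * ι (rt 0 4))) = 1 := by
    intro w x hx h4
    have hcK := h.ιK (pr w)
    have f1 := F.eqv _ _ g14.isZ hcK
    have f2 := F.eqv _ _ g04.isZ hcK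
    have f3 := F.eqv _ _ g1404.isZ hcK
    have e3 : ι (pr w) * (ι (rt 1 4) * ι (rt 0 4)) * (ι (pr w))⁻¹ = x * ι (rt 0 4) := by
      calc ι (pr w) * (ι (rt 1 4) * ι (rt 0 4)) * (ι (pr w))⁻¹ =
          (ι (pr w) * ι (rt 1 4) * (ι (pr w))⁻¹) * (ι (pr w) * ι (rt 0 4) * (ι (pr w))⁻¹) := by group
        _ = _ := by rw [hx, h4]
    rw [hx] at f1
    rw [h4] at f2
    rw [e3] at f3
    rw [f1, f2, f3]
    calc ι (pr w) * (t * A (ι (rt 1 4))) * (ι (pr w))⁻¹ *
          (ι (pr w) * (t * A (ι (rt 0 4))) * (ι (pr w))⁻¹) *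
          (ι (pr w) * (t * A (ι (rt 1 4) * ι (rt 0 4))) * (ι (pr w))⁻¹)
        = ι (pr w) * (t * A (ι (rt 1 4)) * (t * A (ι (rt 0 4))) *
          (t * A (ι (rt 1 4) * ι (rt 0 4)))) * (ι (pr w))⁻¹ := by group
      _ = ι (pr w) * 1 * (ι (pr w))⁻¹ := by rw [l1]
      _ = 1 := by group
  have l2 := r1 [(1, 2), (2, 1), (1, 2)] (ι (rt 2 4)) (by
    rw [mul_inv_eq_iff_eq_mul]
    simpa only [ιpr, List.map_cons, List.map_nil, List.prod_cons, List.prod_nil, mul_one, mul_assoc]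
      using ιw ι [(1, 2), (2, 1), (1, 2), (1, 4)] [(2, 4), (1, 2), (2, 1), (1, 2)]
        (by decide +kernel)) (by
    rw [mul_inv_eq_iff_eq_mul]
    simpa only [ιpr, List.map_cons, List.map_nil, List.prod_cons, List.prod_nil, mul_one, mul_assoc]
      using ιw ι [(1, 2), (2, 1), (1, 2), (0, 4)] [(0, 4), (1, 2), (2, 1), (1, 2)]
        (by decide +kernel))
  have l3 := r1 [(2, 1)] (ι (rt 2 4) * ι (rt 1 4)) (by
    rw [mul_inv_eq_iff_eq_mul]
    simpa only [ιpr, List.map_cons, List.map_nil, List.prod_cons, List.prod_nil, mul_one, mul_assoc]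
      using ιw ι [(2, 1), (1, 4)] [(2, 4), (1, 4), (2, 1)]
        (by decide +kernel)) (by
    rw [mul_inv_eq_iff_eq_mul]
    simpa only [ιpr, List.map_cons, List.map_nil, List.prod_cons, List.prod_nil, mul_one, mul_assoc]
      using ιw ι [(2, 1), (0, 4)] [(0, 4), (2, 1)]
        (by decide +kernel))
  -- conjugation by `x02`
  have x24 : ι (rt 0 2) * ι (rt 2 4) * (ι (rt 0 2))⁻¹ = ι (rt 2 4) * ι (rt 0 4) := by
    rw [mul_inv_eq_iff_eq_mul]
    simpa only [ιpr, List.map_cons, List.map_nil, List.prod_cons, List.prod_nil, mul_one, mul_assoc]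
      using ιw ι [(0, 2), (2, 4)] [(2, 4), (0, 4), (0, 2)]
        (by decide +kernel)
  have x14 : ι (rt 0 2) * ι (rt 1 4) * (ι (rt 0 2))⁻¹ = ι (rt 1 4) := by
    rw [mul_inv_eq_iff_eq_mul]
    simpa only [ιpr, List.map_cons, List.map_nil, List.prod_cons, List.prod_nil, mul_one, mul_assoc]
      using ιw ι [(0, 2), (1, 4)] [(1, 4), (0, 2)]
        (by decide +kernel)
  have x2414 : ι (rt 0 2) * (ι (rt 2 4) * ι (rt 1 4)) * (ι (rt 0 2))⁻¹ =
      ι (rt 2 4) * ι (rt 1 4) * ι (rt 0 4) := by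
    rw [mul_inv_eq_iff_eq_mul]
    simpa only [ιpr, List.map_cons, List.map_nil, List.prod_cons, List.prod_nil, mul_one, mul_assoc]
      using ιw ι [(0, 2), (2, 4), (1, 4)] [(2, 4), (1, 4), (0, 4), (0, 2)]
        (by decide +kernel)
  have hxK := h.ιK (rt 0 2)
  have f1 := F.eqv _ _ g24.isZ hxK
  have f2 := F.eqv _ _ g14.isZ hxK
  have f3 := F.eqv _ _ g2414.isZ hxK
  rw [x24] at f1
  rw [x14] at f2
  rw [x2414] at f3
  obtain ⟨w, hw, e⟩ := VV_word h hm
  have e5 : ι (rt 0 2) * ι (pr w) * (ι (rt 0 2))⁻¹ = ι (rt 0 4) * ι (rt 1 4) * ι (pr w) := by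
    rw [← e]
    have k1 : ι (rt 0 2) * (t * A (ι (rt 2 4)) * (t * A (ι (rt 1 4))) *
        (t * A (ι (rt 2 4) * ι (rt 1 4)))) * (ι (rt 0 2))⁻¹ =
        (t * A (ι (rt 2 4) * ι (rt 0 4))) * (t * A (ι (rt 1 4))) *
          (t * A (ι (rt 2 4) * ι (rt 1 4) * ι (rt 0 4))) := by
      rw [f1, f3]
      nth_rw 2 [f2]
      group
    rw [k1]
    have m2 := VV_sq hm
    have cm : ∀ x, IsZ K z x → x ∈ VV ι →
        t * A (ι (rt 2 4)) * (t * A (ι (rt 1 4))) * (t * A (ι (rt 2 4) * ι (rt 1 4))) * (t * A x) =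
        t * A x * (t * A (ι (rt 2 4)) * (t * A (ι (rt 1 4))) *
          (t * A (ι (rt 2 4) * ι (rt 1 4)))) := fun x hx hxV =>
      F.cen _ _ hx (VV_le_K h hm) (VV_comm hm hxV)
    have cm1 := cm _ g14.isZ g14.uV
    have cm2 := cm _ g24.isZ g24.uV
    have s04' : (ι (rt 0 4))⁻¹ = ι (rt 0 4) := VV_inv g04.uV
    clear k1 f1 f2 f3 r1 F hr cm
    generalize t * A (ι (rt 2 4) * ι (rt 0 4)) = f2404 at *
    generalize t * A (ι (rt 2 4) * ι (rt 1 4) * ι (rt 0 4)) = f241404 at *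
    generalize t * A (ι (rt 1 4) * ι (rt 0 4)) = f1404 at *
    generalize t * A (ι (rt 2 4) * ι (rt 1 4)) = f2414 at *
    generalize t * A (ι (rt 1 4)) = f14 at *
    generalize t * A (ι (rt 2 4)) = f24 at *
    generalize t * A (ι (rt 0 4)) = f04 at *
    have n1 : f2404 = (f24 * f04)⁻¹ := (eq_inv_of_mul_eq_one_right l2)
    have n2 : f241404 = (f2414 * f04)⁻¹ := (eq_inv_of_mul_eq_one_right l3)
    set M := f24 * f14 * f2414 with hM
    have n3 : f2414⁻¹ = M * (f24 * f14) := by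
      rw [← inv_eq_of_mul_eq_one_right m2, hM]; group
    have c04i : f04⁻¹ * f24 = f24 * f04⁻¹ := (show Commute f04 f24 from c24.symm).inv_left
    have c04j : f04⁻¹ * f14 = f14 * f04⁻¹ := (show Commute f04 f14 from c14.symm).inv_left
    rw [n1, n2]
    calc (f24 * f04)⁻¹ * f14 * (f2414 * f04)⁻¹ = f04⁻¹ * f24⁻¹ * f14 * f04⁻¹ * f2414⁻¹ := by group
      _ = f04⁻¹ * f24⁻¹ * f14 * f04⁻¹ * (M * f24) * f14 := by rw [n3]; group
      _ = f04⁻¹ * f24⁻¹ * f14 * f04⁻¹ * f24 * (M * f14) := by rw [cm2]; group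
      _ = f04⁻¹ * f24⁻¹ * f14 * (f04⁻¹ * f24) * f14 * M := by rw [cm1]; group
      _ = f04⁻¹ * f24⁻¹ * (f14 * f24) * f04⁻¹ * f14 * M := by rw [c04i]; group
      _ = f04⁻¹ * (f14 * f04⁻¹) * f14 * M := by rw [← c21]; group
      _ = (f04 * f04)⁻¹ * (f14 * f14) * M := by rw [← c04j]; group
      _ = ι (rt 0 4) * ι (rt 1 4) * M := by rw [s04, s14, s04']
  have e6 : ∀ w ∈ subs [(0, 3), (0, 4), (1, 3), (1, 4), (2, 3), (2, 4)],
      cpr ([(0, 2)] ++ w) ≠ cpr ([(0, 4), (1, 4)] ++ w ++ [(0, 2)]) := by decide +kernel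
  apply e6 w hw
  rw [← cd_pr, ← cd_pr]
  congr 2
  apply h.inj
  rw [pr_append, pr_append, pr_append, map_mul, map_mul, map_mul]
  rw [mul_inv_eq_iff_eq_mul] at e5
  simpa only [pr_cons, pr_nil, mul_one, map_mul] using e5


/-! ### commutation -/

theorem comm_line {u v : G} (h : Core K t z a ι y1 y2) (hu : IsZ K z u) (hv : IsZ K z v)
    (hw : IsZ K z (u * v)) (uV : u ∈ VV ι) (vV : v ∈ VV ι)
    (hm : A u * A v * A (u * v) ∈ VV ι) : A u * A v = A v * A u := by
  have cw := cV h hw ((VV ι).mul_mem uV vV) hm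
  have sw := h.al_sq hw
  have sm := VV_sq hm
  apply comm_of_sq (h.al_sq hu) (h.al_sq hv)
  generalize A (u * v) = r at *
  generalize A u = p at *
  generalize A v = q at *
  calc p * q * (p * q) = p * q * (p * q) * (r * r) := by rw [sw, mul_one]
    _ = p * q * (p * q * r * r) := by group
    _ = p * q * (r * (p * q * r)) := by rw [cw]
    _ = p * q * r * (p * q * r) := by group
    _ = 1 := sm

theorem comm_gd {u u' v v' : G} (h : Core K t z a ι y1 y2) (hu : Gd K z ι y1 u u')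
    (hv : Gd K z ι y1 v v') (hw : Gd K z ι y1 (u * v) (u' * v')) : A u * A v = A v * A u :=
  comm_line h hu.isZ hv.isZ hw.isZ hu.uV hv.uV ((parity h hu hv hw).2 (row_mem h))

/-- the row is commutative -/
theorem comm_row {u u' : G} (h : Core K t z a ι y1 y2) (hu : Gd K z ι y1 u u') :
    A u * A u' = A u' * A u := by
  have hm := (row_par h hu).2 (row_mem h)
  have e : u * (u' * u) = u' := by
    calc u * (u' * u) = u * (u * u') := by rw [VV_comm hu.uV hu.uV']
      _ = (u * u) * u' := by group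
      _ = u' := by rw [VV_sq hu.uV, one_mul]
  have h1 := comm_line h hu.isZ (hu.isZ1 h) (by rw [e]; exact hu.isZ2 h) hu.uV
    ((VV ι).mul_mem hu.uV' hu.uV) (by rw [e]; exact hm)
  have c1 := cV h hu.isZ hu.uV hm
  have e2 : A u' = (A u * A (u' * u))⁻¹ * row K z a u u' := by unfold row; group
  have k1 : Commute (A u) (A u') := by
    rw [e2]
    refine Commute.mul_right (Commute.inv_right (Commute.mul_right rfl h1)) ?_
    exact c1.symm
  exact k1

/-- `α_{u' u}` -/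
theorem al_mul {u u' : G} (h : Core K t z a ι y1 y2) (hu : Gd K z ι y1 u u') :
    ∃ m ∈ VV ι, A (u' * u) = m * (A u * A u') := by
  have hm := (row_par h hu).2 (row_mem h)
  refine ⟨row K z a u u', hm, ?_⟩
  have c1 := cV h hu.isZ hu.uV hm
  have s1 := h.al_sq hu.isZ
  have s2 := h.al_sq (hu.isZ2 h)
  calc A (u' * u) = (A u * A u) * A (u' * u) * (A u' * A u') := by rw [s1, s2, one_mul, mul_one]
    _ = A u * row K z a u u' * A u' := by unfold row; group
    _ = row K z a u u' * A u * A u' := by rw [c1]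
    _ = _ := by group

/-- the elements `α_{u'}`, `α_{v'}` -/
theorem comm_y {u u' v v' : G} (h : Core K t z a ι y1 y2) (hu : Gd K z ι y1 u u')
    (hv : Gd K z ι y1 v v') (hc : A u * A v = A v * A u) : A u' * A v' = A v' * A u' := by
  have e1 := al_y1 h (hu.isZ2 h) hu.o1
  have e2 := al_y1 h (hv.isZ2 h) hv.o1
  rw [e1, e2] at hc
  calc A u' * A v' = y1 * ((y1⁻¹ * A u' * y1) * (y1⁻¹ * A v' * y1)) * y1⁻¹ := by group
    _ = y1 * ((y1⁻¹ * A v' * y1) * (y1⁻¹ * A u' * y1)) * y1⁻¹ := by rw [hc]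
    _ = _ := by group

/-- the elements `α_{u'}`, `α_v` -/
theorem comm_mix {u u' v v' : G} (h : Core K t z a ι y1 y2) (hu : Gd K z ι y1 u u')
    (hv : Gd K z ι y1 v v') (hc : A u * A v = A v * A u) : A u' * A v = A v * A u' := by
  obtain ⟨m, hm, em⟩ := al_mul h hu
  obtain ⟨n, hn, en⟩ := al_mul h hv
  have y11 := al_y1 h (hu.isZ2 h) hu.o1
  have y12 := al_y1 h (hv.isZ2 h) hv.o1
  have y13 := al_y1 h hu.isZ hu.o2
  have y14 := al_y1 h hv.isZ hv.o2
  rw [em] at y13
  rw [en] at y14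
  have k1 := kap h (hu.isZ2 h) hv.isZ hu.uV' hv.uV
  have k2 := kap h hu.isZ (hv.isZ2 h) hu.uV hv.uV'
  have cu := comm_row h hu
  have cv := comm_row h hv
  have su := h.al_sq hu.isZ
  have sv := h.al_sq hv.isZ
  have su' := h.al_sq (hu.isZ2 h)
  have sv' := h.al_sq (hv.isZ2 h)
  have cm1 := cV h hu.isZ hu.uV hm
  have cm2 := cV h (hu.isZ2 h) hu.uV' hm
  have cm3 := cV h hv.isZ hv.uV hm
  have cn1 := cV h hu.isZ hu.uV hn
  have cn2 := cV h (hv.isZ2 h) hv.uV' hn
  have cn3 := cV h hv.isZ hv.uV hn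
  have sm := VV_sq hm
  have sn := VV_sq hn
  have ck2 := cV h hv.isZ hv.uV k2
  apply comm_of_sq su' sv
  -- `p = α_{u'}`, `p' = α_u`, `q = α_{v'}`, `q' = α_v`
  generalize A u' = p at *
  generalize A u = p' at *
  generalize A v' = q at *
  generalize A v = q' at *
  have e1 : y1⁻¹ * (p * q' * (p * q')) * y1 = p' * q * (p' * q) := by
    calc y1⁻¹ * (p * q' * (p * q')) * y1 =
        (y1⁻¹ * p * y1) * (y1⁻¹ * q' * y1) * ((y1⁻¹ * p * y1) * (y1⁻¹ * q' * y1)) := by group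
      _ = p' * (n * (q' * q)) * (p' * (n * (q' * q))) := by rw [← y11, ← y14]
      _ = (p' * n) * (q' * q) * (p' * n) * (q' * q) := by group
      _ = (n * p') * (q' * q) * (n * p') * (q' * q) := by rw [cn1]
      _ = n * p' * q' * (q * n) * p' * (q' * q) := by group
      _ = n * p' * (q' * n) * q * p' * (q' * q) := by rw [← cn2]; group
      _ = n * (p' * n) * q' * q * p' * (q' * q) := by rw [← cn3]; group
      _ = (n * n) * p' * q' * q * p' * (q' * q) := by rw [← cn1]; group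
      _ = (p' * q') * q * p' * (q' * q) := by rw [sn]; group
      _ = q' * p' * q * p' * (q' * q) := by rw [hc]
      _ = q' * (p' * q * p') * (q * q') := by rw [cv]; group
      _ = q' * (p' * q * (p' * q)) * q' := by group
      _ = (p' * q * (p' * q)) * (q' * q') := by rw [← ck2]; group
      _ = p' * q * (p' * q) := by rw [sv, mul_one]
  have e2 : y1⁻¹ * (p' * q * (p' * q)) * y1 = p * q' * (p * q') := by
    calc y1⁻¹ * (p' * q * (p' * q)) * y1 =
        (y1⁻¹ * p' * y1) * (y1⁻¹ * q * y1) * ((y1⁻¹ * p' * y1) * (y1⁻¹ * q * y1)) := by group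
      _ = m * (p' * p) * q' * (m * (p' * p) * q') := by rw [← y13, ← y12]
      _ = m * p' * p * (q' * m) * p' * p * q' := by group
      _ = m * p' * (p * m) * q' * p' * p * q' := by rw [← cm3]; group
      _ = m * (p' * m) * p * q' * p' * p * q' := by rw [← cm2]; group
      _ = (m * m) * p' * p * q' * p' * p * q' := by rw [← cm1]; group
      _ = (p' * p) * (q' * p') * p * q' := by rw [sm]; group
      _ = p * p' * (p' * q') * p * q' := by rw [cu, ← hc]
      _ = p * (p' * p') * q' * (p * q') := by group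
      _ = p * q' * (p * q') := by rw [su, mul_one]
  generalize p * q' * (p * q') = k at *
  generalize p' * q * (p' * q) = k' at *
  have n1 := norm_one h k1
  rw [e1, e2] at n1
  -- `k k' k = 1`
  have e3 : k' = 1 := by
    calc k' = (k * k) * k' := by rw [VV_sq k1, one_mul]
      _ = k * (k * k') := by group
      _ = k * (k' * k) := by rw [VV_comm k1 k2]
      _ = k * k' * k := by group
      _ = 1 := n1
  rw [← e2, e3]
  group


theorem gd_i (h : Core K t z a ι y1 y2) (i : Fin 5) (hi : i < 3) :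
    Gd K z ι y1 (ι (rt i 4)) (ι (rt i 3)) := by
  rcases (by decide : ∀ i : Fin 5, i < 3 → i = 0 ∨ i = 1 ∨ i = 2) i hi with rfl | rfl | rfl
  · exact gd04 h
  · exact gd14 h
  · exact gd24 h

theorem comm4 (h : Core K t z a ι y1 y2) (i j : Fin 5) (hi : i < 3) (hj : j < 3) :
    A (ι (rt i 4)) * A (ι (rt j 4)) = A (ι (rt j 4)) * A (ι (rt i 4)) := by
  have c10 := comm_gd h (gd14 h) (gd04 h) (gd1404 h)
  have c20 := comm_gd h (gd24 h) (gd04 h) (gd2404 h)
  have c21 := comm_gd h (gd24 h) (gd14 h) (gd2414 h)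
  rcases (by decide : ∀ i : Fin 5, i < 3 → i = 0 ∨ i = 1 ∨ i = 2) i hi with rfl | rfl | rfl <;>
  rcases (by decide : ∀ i : Fin 5, i < 3 → i = 0 ∨ i = 1 ∨ i = 2) j hj with rfl | rfl | rfl
  · rfl
  · exact c10.symm
  · exact c20.symm
  · exact c10
  · rfl
  · exact c21.symm
  · exact c20
  · exact c21
  · rfl

theorem comm_all (h : Core K t z a ι y1 y2) (i j k l : Fin 5) (hi : i < 3) (hj : 2 < j)
    (hk : k < 3) (hl : 2 < l) :
    A (ι (rt i j)) * A (ι (rt k l)) = A (ι (rt k l)) * A (ι (rt i j)) := by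
  have gi := gd_i h i hi
  have gk := gd_i h k hk
  have c := comm4 h i k hi hk
  rcases col_cases j hj with rfl | rfl <;> rcases col_cases l hl with rfl | rfl
  · exact comm_y h gi gk c
  · exact comm_mix h gi gk c
  · exact (comm_mix h gk gi c.symm).symm
  · exact c

theorem isZ_word (h : Core K t z a ι y1 y2) {u w : G} (hu : IsZ K z u) (l : List (Fin 5 × Fin 5))
    (e : ι (pr l) * u = w * ι (pr l)) : IsZ K z w := by
  have := Core.isZ_conj hu (h.ιK (pr l))
  rw [e] at this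
  have e2 : w * ι (pr l) * (ι (pr l))⁻¹ = w := by group
  rwa [e2] at this

theorem isZ_all (h : Core K t z a ι y1 y2) (i j : Fin 5) (hij : i < j) : IsZ K z (ι (rt i j)) := by
  have h03 := (gd04 h).isZ2 h
  have h13 := (gd14 h).isZ2 h
  have h23 := (gd24 h).isZ2 h
  have h04 := (gd04 h).isZ
  have h14 := (gd14 h).isZ
  have h24 := (gd24 h).isZ
  have h34 : IsZ K z (ι (rt 3 4)) := isZ_word h h24 [(2, 3), (3, 2), (2, 3)] (by
    simpa only [ιpr, List.map_cons, List.map_nil, List.prod_cons, List.prod_nil, mul_one, mul_assoc]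
      using ιw ι [(2, 3), (3, 2), (2, 3), (2, 4)] [(3, 4), (2, 3), (3, 2), (2, 3)]
        (by decide +kernel))
  have h02 : IsZ K z (ι (rt 0 2)) := isZ_word h h03 [(2, 3), (3, 2), (2, 3)] (by
    simpa only [ιpr, List.map_cons, List.map_nil, List.prod_cons, List.prod_nil, mul_one, mul_assoc]
      using ιw ι [(2, 3), (3, 2), (2, 3), (0, 3)] [(0, 2), (2, 3), (3, 2), (2, 3)]
        (by decide +kernel))
  have h12 : IsZ K z (ι (rt 1 2)) := isZ_word h h13 [(2, 3), (3, 2), (2, 3)] (by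
    simpa only [ιpr, List.map_cons, List.map_nil, List.prod_cons, List.prod_nil, mul_one, mul_assoc]
      using ιw ι [(2, 3), (3, 2), (2, 3), (1, 3)] [(1, 2), (2, 3), (3, 2), (2, 3)]
        (by decide +kernel))
  have h01 : IsZ K z (ι (rt 0 1)) := isZ_word h h02 [(1, 2), (2, 1), (1, 2)] (by
    simpa only [ιpr, List.map_cons, List.map_nil, List.prod_cons, List.prod_nil, mul_one, mul_assoc]
      using ιw ι [(1, 2), (2, 1), (1, 2), (0, 2)] [(0, 1), (1, 2), (2, 1), (1, 2)]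
        (by decide +kernel))
  rcases (by decide : ∀ i j : Fin 5, i < j → (i = 0 ∧ j = 1) ∨ (i = 0 ∧ j = 2) ∨ (i = 0 ∧ j = 3) ∨
    (i = 0 ∧ j = 4) ∨ (i = 1 ∧ j = 2) ∨ (i = 1 ∧ j = 3) ∨ (i = 1 ∧ j = 4) ∨ (i = 2 ∧ j = 3) ∨
    (i = 2 ∧ j = 4) ∨ (i = 3 ∧ j = 4)) i j hij with
    ⟨rfl, rfl⟩ | ⟨rfl, rfl⟩ | ⟨rfl, rfl⟩ | ⟨rfl, rfl⟩ | ⟨rfl, rfl⟩ | ⟨rfl, rfl⟩ | ⟨rfl, rfl⟩ |
    ⟨rfl, rfl⟩ | ⟨rfl, rfl⟩ | ⟨rfl, rfl⟩ <;> assumption

theorem l03 (h : Core K t z a ι y1 y2) :
    A (ι (rt 0 3 * rt 0 4)) = A (ι (rt 0 3)) * A (ι (rt 0 4)) := by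
  have hu := gd_z h
  have hm := row_mem h
  have ca : A (ι (rt 0 3)) * A (ι (rt 0 4)) = A (ι (rt 0 4)) * A (ι (rt 0 3)) :=
    comm_all h 0 3 0 4 (by decide) (by decide) (by decide) (by decide)
  have c1 := cV h hu.isZ hu.uV hm
  have e1 := al_y1 h (hu.isZ2 h) hu.o1
  have e2 := al_y1 h hu.isZ hu.o2
  have e3 := al_y1 h (hu.isZ1 h) hu.toOm.e2
  have e4 : y1⁻¹ * row K z a z (ι (rt 0 3)) * y1 = row K z a z (ι (rt 0 3)) := by
    calc y1⁻¹ * row K z a z (ι (rt 0 3)) * y1 =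
        (y1⁻¹ * A z * y1) * (y1⁻¹ * A (ι (rt 0 3) * z) * y1) * (y1⁻¹ * A (ι (rt 0 3)) * y1) := by
          unfold row; group
      _ = A (ι (rt 0 3) * z) * A (ι (rt 0 3)) * A z := by rw [← e1, ← e2, ← e3]
      _ = (A z)⁻¹ * (row K z a z (ι (rt 0 3)) * A z) := by unfold row; group
      _ = _ := by rw [c1]; group
  have e5 := fix_y1 h hm e4
  rw [map_mul, z_eq h] at *
  unfold row at e5
  have s1 := h.al_sq hu.isZ
  have s2 := h.al_sq (hu.isZ2 h)
  rw [ca]
  calc A (ι (rt 0 3) * z) = (A z * A z) * A (ι (rt 0 3) * z) * (A (ι (rt 0 3)) * A (ι (rt 0 3))) := by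
        rw [s1, s2, one_mul, mul_one]
    _ = A z * (A z * A (ι (rt 0 3) * z) * A (ι (rt 0 3))) * A (ι (rt 0 3)) := by group
    _ = A z * A (ι (rt 0 3)) := by rw [e5, mul_one]

theorem l14 (h : Core K t z a ι y1 y2) :
    A (ι (rt 1 4 * rt 0 4)) = A (ι (rt 1 4)) * A (ι (rt 0 4)) := by
  have ca : A (ι (rt 1 4)) * A (ι (rt 0 4)) = A (ι (rt 0 4)) * A (ι (rt 1 4)) :=
    comm_all h 1 4 0 4 (by decide) (by decide) (by decide) (by decide)
  have h1 := eline h (fm_al h) ((parity h (gd14 h) (gd04 h) (gd1404 h)).2 (row_mem h))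
  have s1 := h.al_sq (gd14 h).isZ
  have s2 := h.al_sq (gd04 h).isZ
  rw [map_mul, ca]
  have h2 := eq_inv_of_mul_eq_one_right h1
  rw [h2, mul_inv_rev, inv_eq_of_mul_eq_one_right s1, inv_eq_of_mul_eq_one_right s2]

theorem l24 (h : Core K t z a ι y1 y2) :
    A (ι (rt 2 4 * rt 1 4)) = A (ι (rt 2 4)) * A (ι (rt 1 4)) ∨
    A (ι (rt 2 4 * rt 1 4)) = A (ι (rt 2 4)) * A (ι (rt 1 4)) * z := by
  have ca : A (ι (rt 2 4)) * A (ι (rt 1 4)) = A (ι (rt 1 4)) * A (ι (rt 2 4)) :=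
    comm_all h 2 4 1 4 (by decide) (by decide) (by decide) (by decide)
  have h1 := l2414 h (fm_al h) ((parity h (gd24 h) (gd14 h) (gd2414 h)).2 (row_mem h))
  have s1 := h.al_sq (gd24 h).isZ
  have s2 := h.al_sq (gd14 h).isZ
  have e : ∀ w : G, A (ι (rt 2 4)) * A (ι (rt 1 4)) * A (ι (rt 2 4) * ι (rt 1 4)) = w →
      A (ι (rt 2 4) * ι (rt 1 4)) = A (ι (rt 2 4)) * A (ι (rt 1 4)) * w := by
    intro w hw
    rw [← hw]
    calc A (ι (rt 2 4) * ι (rt 1 4)) = (A (ι (rt 2 4)) * A (ι (rt 2 4))) *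
          A (ι (rt 2 4) * ι (rt 1 4)) := by rw [s1, one_mul]
      _ = A (ι (rt 2 4)) * (A (ι (rt 1 4)) * A (ι (rt 1 4))) * A (ι (rt 2 4)) *
          A (ι (rt 2 4) * ι (rt 1 4)) := by rw [s2]; group
      _ = A (ι (rt 2 4)) * A (ι (rt 1 4)) * (A (ι (rt 1 4)) * A (ι (rt 2 4))) *
          A (ι (rt 2 4) * ι (rt 1 4)) := by group
      _ = _ := by rw [← ca]; group
  rw [map_mul]
  rcases h1 with h1 | h1
  · left
    have := e 1 h1
    rwa [mul_one] at this
  · right
    exact e z h1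

end Al

/-- **step (3)** -/
theorem half (h : Core K t z a ι y1 y2) : Fam.Half K z a ι where
  isZ := isZ_all h
  comm := comm_all h
  l03 := l03 h
  l14 := l14 h
  l24 := l24 h

end Cfsg.Agent.OddHalf.UT5.V2

end

-- merged: Cfsg.Agent.OddHalf.UT5.CommAll
section

/-!
# ODD half, groups with Sylow 2-subgroup `UT(5, 2)`: step (4) (helper269)

Text: bb ODD #10902. Every pair of commuting roots is conjugate, by one of the six permutation matrices of `{1, 2, 3}`,
to a pair of roots in `V1` or in `V2`: `fam : Core → Half → Half' → Fam`.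
-/

set_option autoImplicit false
set_option linter.dupNamespace false

namespace Cfsg.Agent.OddHalf.UT5.CommAll

open Cfsg.Agent.SporadicRecognition.HeldModel Cfsg.Agent.OddHalf.UT5.Model Cfsg.Agent.OddHalf.UT5.Core
  Cfsg.Agent.OddHalf.UT5.Fam Cfsg.Agent.Lib.F2Mat

/-- the six permutation matrices of `{1, 2, 3}` as words, with the permutation -/
def ws : List (List (Fin 5 × Fin 5) × List (Fin 5)) := [
  ([], [0, 1, 2, 3, 4]),
  ([(1, 2), (2, 1), (1, 2)], [0, 2, 1, 3, 4]),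
  ([(2, 3), (3, 2), (2, 3)], [0, 1, 3, 2, 4]),
  ([(1, 2), (2, 1), (1, 2), (2, 3), (3, 2), (2, 3)], [0, 2, 3, 1, 4]),
  ([(2, 3), (3, 2), (2, 3), (1, 2), (2, 1), (1, 2)], [0, 3, 1, 2, 4]),
  ([(1, 2), (2, 1), (1, 2), (2, 3), (3, 2), (2, 3), (1, 2), (2, 1), (1, 2)], [0, 3, 2, 1, 4])]

/-- the index `σ i` -/
def sg (s : List (Fin 5)) (i : Fin 5) : Fin 5 := s.getD i 0

/-- Boolean: `w x_ij w⁻¹ = x_kl` -/
def cj (w : List (Fin 5 × Fin 5)) (i j k l : Fin 5) : Bool :=
  Nat.beq (Cfsg.Agent.Lib.F2Mat.mul 5 (cpr w) (crt i j)) (Cfsg.Agent.Lib.F2Mat.mul 5 (crt k l) (cpr w))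

theorem of_cj {w : List (Fin 5 × Fin 5)} {i j k l : Fin 5} (h : cj w i j k l = true) :
    pr w * rt i j * (pr w)⁻¹ = rt k l := by
  rw [mul_inv_eq_iff_eq_mul]
  apply eq_of_cd
  rw [Subgroup.coe_mul, cd_mul, Subgroup.coe_mul, cd_mul, cd_pr, cd_rt, cd_rt]
  exact Nat.eq_of_beq_eq_true h

/-- Boolean: `(i, j)` is in `V2` -/
def inV2 (i j : Fin 5) : Bool := decide (i < 3) && decide (2 < j)

/-- Boolean: `(i, j)` is in `V1` -/
def inV1 (i j : Fin 5) : Bool := decide (i < 2) && decide (1 < j)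

/-- Boolean: `w` moves `(i, j)` and `(k, l)` into `V2` or into `V1` -/
def gd (w : List (Fin 5 × Fin 5) × List (Fin 5)) (i j k l : Fin 5) : Bool :=
  ((inV2 (sg w.2 i) (sg w.2 j) && inV2 (sg w.2 k) (sg w.2 l)) ||
    (inV1 (sg w.2 i) (sg w.2 j) && inV1 (sg w.2 k) (sg w.2 l))) &&
  (cj w.1 i j (sg w.2 i) (sg w.2 j) && cj w.1 k l (sg w.2 k) (sg w.2 l))

theorem exists_w : ∀ i j k l : Fin 5, i < j → k < l → j ≠ k → l ≠ i →
    (ws.any fun w => gd w i j k l) = true := by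
  decide +kernel

variable {G : Type*} [Group G] {K : Subgroup G} {t z a : G} {ι : CC →* G} {y1 y2 : G}

theorem comm_V1 (H' : Half K z a (ι.comp tauC)) {i j k l : Fin 5} (h1 : inV1 i j = true)
    (h2 : inV1 k l = true) :
    al K z a (ι (rt i j)) * al K z a (ι (rt k l)) = al K z a (ι (rt k l)) * al K z a (ι (rt i j)) := by
  unfold inV1 at h1 h2
  rw [Bool.and_eq_true, decide_eq_true_eq, decide_eq_true_eq] at h1 h2
  have key : ∀ i j : Fin 5, i < 2 ∧ 1 < j → j.rev < 3 ∧ 2 < i.rev := by decide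
  have h3 := H'.comm j.rev i.rev l.rev k.rev (key i j h1).1 (key i j h1).2 (key k l h2).1 (key k l h2).2
  have e : ∀ i j : Fin 5, (ι.comp tauC) (rt j.rev i.rev) = ι (rt i j) := by
    intro i j
    show ι (tauC (rt j.rev i.rev)) = ι (rt i j)
    rw [tauC_rt, Fin.rev_rev, Fin.rev_rev]
  rwa [e, e] at h3

theorem comm_V2 (H : Half K z a ι) {i j k l : Fin 5} (h1 : inV2 i j = true) (h2 : inV2 k l = true) :
    al K z a (ι (rt i j)) * al K z a (ι (rt k l)) = al K z a (ι (rt k l)) * al K z a (ι (rt i j)) := by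
  unfold inV2 at h1 h2
  rw [Bool.and_eq_true, decide_eq_true_eq, decide_eq_true_eq] at h1 h2
  exact H.comm i j k l h1.1 h1.2 h2.1 h2.2

theorem conj_comm {g x y x' y' : G} (hx : g * x * g⁻¹ = x') (hy : g * y * g⁻¹ = y')
    (h : x' * y' = y' * x') : x * y = y * x := by
  rw [← hx, ← hy] at h
  have h1 : g * (x * y) * g⁻¹ = g * (y * x) * g⁻¹ := by
    calc g * (x * y) * g⁻¹ = g * x * g⁻¹ * (g * y * g⁻¹) := by group
      _ = g * y * g⁻¹ * (g * x * g⁻¹) := h
      _ = g * (y * x) * g⁻¹ := by group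
  exact mul_left_cancel (mul_right_cancel h1)

/-- all commuting pairs of roots -/
theorem comm_all (h : Core K t z a ι y1 y2) (H : Half K z a ι) (H' : Half K z a (ι.comp tauC))
    (i j k l : Fin 5) (hij : i < j) (hkl : k < l) (hjk : j ≠ k) (hli : l ≠ i) :
    al K z a (ι (rt i j)) * al K z a (ι (rt k l)) = al K z a (ι (rt k l)) * al K z a (ι (rt i j)) := by
  obtain ⟨w, -, hw⟩ := List.any_eq_true.1 (exists_w i j k l hij hkl hjk hli)
  unfold gd at hw
  rw [Bool.and_eq_true, Bool.or_eq_true, Bool.and_eq_true, Bool.and_eq_true, Bool.and_eq_true] at hw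
  obtain ⟨h1, h2, h3⟩ := hw
  have e : ∀ {i j k l : Fin 5}, i < j → cj w.1 i j k l = true →
      ι (pr w.1) * al K z a (ι (rt i j)) * (ι (pr w.1))⁻¹ = al K z a (ι (rt k l)) := by
    intro i j k l hij hc
    rw [← h.al_eqv (H.isZ i j hij) (h.ιK (pr w.1)), ← map_inv, ← map_mul, ← map_mul, of_cj hc]
  refine conj_comm (e hij h2) (e hkl h3) ?_
  rcases h1 with h1 | h1
  · exact comm_V2 H h1.1 h1.2
  · exact comm_V1 H' h1.1 h1.2

/-- **step (4)** -/
theorem fam (h : Core K t z a ι y1 y2) (H : Half K z a ι) (H' : Half K z a (ι.comp tauC)) :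
    Fam K z a ι where
  isZ := H.isZ
  comm := comm_all h H H'
  l03 := H.l03
  l14 := H.l14
  l24 := H.l24
  l02 := by
    have h1 := H'.l24
    have e1 : (ι.comp tauC) (rt 2 4) = ι (rt 0 2) := by
      show ι (tauC (rt 2 4)) = ι (rt 0 2)
      rw [tauC_rt]; rfl
    have e2 : (ι.comp tauC) (rt 1 4) = ι (rt 0 3) := by
      show ι (tauC (rt 1 4)) = ι (rt 0 3)
      rw [tauC_rt]; rfl
    rwa [map_mul, e1, e2, ← map_mul] at h1

/-- **the mirror image** -/
theorem fam_tau (F : Fam K z a ι) : Fam K z a (ι.comp tauC) := by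
  have e : ∀ i j : Fin 5, (ι.comp tauC) (rt i j) = ι (rt j.rev i.rev) := by
    intro i j
    show ι (tauC (rt i j)) = ι (rt j.rev i.rev)
    rw [tauC_rt]
  have e04 : (ι.comp tauC) (rt 0 4) = ι (rt 0 4) := e 0 4
  have e03 : (ι.comp tauC) (rt 0 3) = ι (rt 1 4) := e 0 3
  have e14 : (ι.comp tauC) (rt 1 4) = ι (rt 0 3) := e 1 4
  have e24 : (ι.comp tauC) (rt 2 4) = ι (rt 0 2) := e 2 4
  have e02 : (ι.comp tauC) (rt 0 2) = ι (rt 2 4) := e 0 2
  refine ⟨?_, ?_, ?_, ?_, ?_, ?_⟩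
  · intro i j hij
    rw [e]
    exact F.isZ _ _ (Fin.rev_lt_rev.2 hij)
  · intro i j k l hij hkl hjk hli
    rw [e, e]
    exact F.comm _ _ _ _ (Fin.rev_lt_rev.2 hij) (Fin.rev_lt_rev.2 hkl)
      (fun h => hli (Fin.rev_injective h).symm) (fun h => hjk (Fin.rev_injective h).symm)
  · rw [map_mul, e03, e04, ← map_mul]; exact F.l14
  · rw [map_mul, e14, e04, ← map_mul]; exact F.l03
  · rw [map_mul, e24, e14, ← map_mul]; exact F.l02
  · rw [map_mul, e02, e03, ← map_mul]; exact F.l24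

end Cfsg.Agent.OddHalf.UT5.CommAll

end

-- merged: Cfsg.Agent.OddHalf.UT5.RowEnd
section

/-!
# ODD half, groups with Sylow 2-subgroup `UT(5, 2)`: `Row.End` (helper458)
-/

set_option autoImplicit false

namespace Cfsg.Agent.OddHalf.UT5.RowEnd

open Cfsg Cfsg.Agent.SporadicRecognition.HeldModel Cfsg.Agent.OddHalf.UT5.Core

universe u

/-- no finite perfect group has `Core` and the clean or the outer case -/
theorem row_end : Row.End.{u} := by
  intro G _ _ hG K t z a ι y1 y2 h hc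
  have F := CommAll.fam h (V2.half h) (V2.half (Fam.core_tau h))
  have R := Adj.rel h F
  rcases hc with hN | ⟨s, O⟩
  · exact End.clean hG R hN h.map_zz.symm
  · exact End.outer hG R O h.map_zz.symm (Adj.outer_rt h F O)

end Cfsg.Agent.OddHalf.UT5.RowEnd

end
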